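import Groth.Agent.Lib.WittDesc2.Witt
import Groth.Agent.Lib.ModDesc12.Main
import Groth.Prelude.Def_W4c3truncdispsmoothDesc
import Mathlib.Tactic.IrreducibleDef

/-!
# Descent data of modules over truncated Witt vectors as matrices
-/

set_option autoImplicit false

universe u

set_option backward.isDefEq.respectTransparency false
set_option backward.isDefEq.respectTransparency.types false

open CategoryTheory ModuleCat TensorProduct
open scoped ChangeOfRings
open CategoryTheory.Pseudofunctor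
open Groth.Agent.ModDesc12 (one one_add one_zero one_smul' map_one' induction_one cov Agree)

noncomputable section

namespace Groth.Agent.WittDesc2

variable {W : CommRingCat.{u} ⥤ CommRingCat.{u}}

/-- A pseudofunctor on rings composed with a functor. -/
abbrev compPF (W : CommRingCat.{u} ⥤ CommRingCat.{u}) (E : Pseudofunctor (LocallyDiscrete CommRingCat.{u}) Cat.{u, u + 1}) :
    Pseudofunctor (LocallyDiscrete (CommRingCat.{u}ᵒᵖ)ᵒᵖ) Cat.{u, u + 1} :=
  ((unopUnop CommRingCat.{u}) ⋙ W).toPseudofunctor.comp E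

/-- Modules over the values of a ring valued functor, as a pseudofunctor. -/
def funModPF (W : CommRingCat.{u} ⥤ CommRingCat.{u}) :
    Pseudofunctor (LocallyDiscrete (CommRingCat.{u}ᵒᵖ)ᵒᵖ) Cat.{u, u + 1} :=
  compPF W CommRingCat.moduleCatExtendScalarsPseudofunctor.{u}

theorem funModPF_wittTrunc (p : ℕ) [Fact p.Prime] (n : ℕ) :
    funModPF (W4c3truncdispsmooth.wittTrunc.{u} p n) = W4c3truncdispsmooth.wittModPF.{u} p n := rfl

/-- The value of the functor. -/
abbrev WT (W : CommRingCat.{u} ⥤ CommRingCat.{u}) (A : CommRingCat.{u}) : Type u := W.obj A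

/-- The map induced by the functor. -/
abbrev wf (W : CommRingCat.{u} ⥤ CommRingCat.{u}) {A B : CommRingCat.{u}} (a : A ⟶ B) : WT W A →+* WT W B :=
  (W.map a).hom

theorem wf_comp_apply {A B C : CommRingCat.{u}} (a : A ⟶ B) (b : B ⟶ C) (x : WT W A) :
    wf W (a ≫ b) x = wf W b (wf W a x) := by
  simp [wf]

theorem wf_id_apply {A : CommRingCat.{u}} (x : WT W A) : wf W (𝟙 A) x = x := by
  simp [wf]

/-- The composite of a two cell and a composition isomorphism, for any pseudofunctor on rings. -/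
def compApp (E : Pseudofunctor (LocallyDiscrete CommRingCat.{u}) Cat.{u, u + 1}) {A B C : CommRingCat.{u}}
    (f : A ⟶ B) (g : B ⟶ C) (k : LocallyDiscrete.mk A ⟶ LocallyDiscrete.mk C) (η : k ≅ f.toLoc ≫ g.toLoc)
    (M : E.obj (LocallyDiscrete.mk A)) :
    (E.map k).toFunctor.obj M ⟶ (E.map f.toLoc ≫ E.map g.toLoc).toFunctor.obj M :=
  (E.map₂Iso η ≪≫ E.mapComp f.toLoc g.toLoc).hom.toNatTrans.app M

theorem compApp_eq (E : Pseudofunctor (LocallyDiscrete CommRingCat.{u}) Cat.{u, u + 1})
    {A B C : CommRingCat.{u}} (a : A ⟶ B) (b : B ⟶ C) (M : E.obj (LocallyDiscrete.mk (W.obj A))) :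
    ((((unopUnop CommRingCat.{u}) ⋙ W).toPseudofunctor.comp E).mapComp a.op.op.toLoc b.op.op.toLoc).hom.toNatTrans.app M =
      compApp E (W.map a) (W.map b) _
        (((unopUnop CommRingCat.{u}) ⋙ W).toPseudofunctor.mapComp a.op.op.toLoc b.op.op.toLoc) M := rfl

variable (E : Pseudofunctor (LocallyDiscrete CommRingCat.{u}) Cat.{u, u + 1}) in
/-- The composition isomorphism, for any pseudofunctor on rings. -/
def mcE {A B C : CommRingCat.{u}} (a : A ⟶ B) (b : B ⟶ C) (c : A ⟶ C)
    (h : a.op.op.toLoc ≫ b.op.op.toLoc = c.op.op.toLoc) (M : E.obj (LocallyDiscrete.mk (W.obj A))) :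
    (E.map (W.map c).toLoc).toFunctor.obj M ⟶
      (E.map (W.map b).toLoc).toFunctor.obj ((E.map (W.map a).toLoc).toFunctor.obj M) :=
  ((compPF W E).mapComp' a.op.op.toLoc b.op.op.toLoc c.op.op.toLoc h).hom.toNatTrans.app M

variable (E : Pseudofunctor (LocallyDiscrete CommRingCat.{u}) Cat.{u, u + 1}) in
/-- The inverse of the composition isomorphism, for any pseudofunctor on rings. -/
def mcInvE {A B C : CommRingCat.{u}} (a : A ⟶ B) (b : B ⟶ C) (c : A ⟶ C)
    (h : a.op.op.toLoc ≫ b.op.op.toLoc = c.op.op.toLoc) (M : E.obj (LocallyDiscrete.mk (W.obj A))) :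
    (E.map (W.map b).toLoc).toFunctor.obj ((E.map (W.map a).toLoc).toFunctor.obj M) ⟶
      (E.map (W.map c).toLoc).toFunctor.obj M :=
  ((compPF W E).mapComp' a.op.op.toLoc b.op.op.toLoc c.op.op.toLoc h).inv.toNatTrans.app M

theorem mcE_mcInvE (E : Pseudofunctor (LocallyDiscrete CommRingCat.{u}) Cat.{u, u + 1})
    {A B C : CommRingCat.{u}} (a : A ⟶ B) (b : B ⟶ C) (c : A ⟶ C)
    (h : a.op.op.toLoc ≫ b.op.op.toLoc = c.op.op.toLoc) (M : E.obj (LocallyDiscrete.mk (W.obj A))) :
    mcE E a b c h M ≫ mcInvE E a b c h M = 𝟙 _ :=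
  (Cat.Hom.toNatIso ((compPF W E).mapComp' a.op.op.toLoc b.op.op.toLoc c.op.op.toLoc h)).hom_inv_id_app M

theorem mcE_eq (E : Pseudofunctor (LocallyDiscrete CommRingCat.{u}) Cat.{u, u + 1})
    {A B C : CommRingCat.{u}} (a : A ⟶ B) (b : B ⟶ C)
    (h : a.op.op.toLoc ≫ b.op.op.toLoc = (a ≫ b).op.op.toLoc) (M : E.obj (LocallyDiscrete.mk (W.obj A))) :
    mcE E a b (a ≫ b) h M = compApp E (W.map a) (W.map b) _
      (((unopUnop CommRingCat.{u}) ⋙ W).toPseudofunctor.mapComp a.op.op.toLoc b.op.op.toLoc) M := by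
  have e : (compPF W E).mapComp' a.op.op.toLoc b.op.op.toLoc (a ≫ b).op.op.toLoc h =
      (compPF W E).mapComp a.op.op.toLoc b.op.op.toLoc := Pseudofunctor.mapComp'_eq_mapComp _ _ _
  unfold mcE
  rw [e]
  exact compApp_eq E a b M

/-- The glueing map, for any pseudofunctor on rings. -/
def hmE (E : Pseudofunctor (LocallyDiscrete CommRingCat.{u}) Cat.{u, u + 1})
    {R S : Type u} [CommRing R] [CommRing S] [Algebra R S]
    (D : (compPF W E).DescentData (cov R S)) {A : CommRingCat.{u}} (a b : CommRingCat.of S ⟶ A)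
    (h : Agree (R := R) a b) :
    (E.map (W.map a).toLoc).toFunctor.obj (D.obj PUnit.unit) ⟶ (E.map (W.map b).toLoc).toFunctor.obj (D.obj PUnit.unit) :=
  D.hom (CommRingCat.ofHom (algebraMap R S) ≫ a).op (i₁ := PUnit.unit) (i₂ := PUnit.unit) a.op b.op
    rfl (congrArg Quiver.Hom.op h).symm

theorem hmE_pull (E : Pseudofunctor (LocallyDiscrete CommRingCat.{u}) Cat.{u, u + 1})
    {R S : Type u} [CommRing R] [CommRing S] [Algebra R S]
    (D : (compPF W E).DescentData (cov R S)) {A A' : CommRingCat.{u}} (a b : CommRingCat.of S ⟶ A)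
    (h : Agree (R := R) a b) (g : A ⟶ A') :
    mcE E a g (a ≫ g) rfl (D.obj PUnit.unit) ≫ (E.map (W.map g).toLoc).toFunctor.map (hmE E D a b h) ≫
      mcInvE E b g (b ≫ g) rfl (D.obj PUnit.unit) = hmE E D (a ≫ g) (b ≫ g) (h.comp g) :=
  D.pullHom_hom g.op (CommRingCat.ofHom (algebraMap R S) ≫ a).op
      (CommRingCat.ofHom (algebraMap R S) ≫ a ≫ g).op rfl a.op b.op rfl
      (congrArg Quiver.Hom.op h).symm (a ≫ g).op (b ≫ g).op rfl rfl

/-- The composition isomorphism of extension of scalars along a two cell. -/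
def extComp {A B C : CommRingCat.{u}} (f : A ⟶ B) (g : B ⟶ C) (k : LocallyDiscrete.mk A ⟶ LocallyDiscrete.mk C)
    (η : k ≅ f.toLoc ≫ g.toLoc) (M : ModuleCat.{u} A) :
    (extendScalars k.as.hom).obj M ⟶ (extendScalars g.hom).obj ((extendScalars f.hom).obj M) :=
  compApp CommRingCat.moduleCatExtendScalarsPseudofunctor.{u} f g k η M

theorem ext_comp_one {A B C : CommRingCat.{u}} (f : A ⟶ B) (g : B ⟶ C) (k : LocallyDiscrete.mk A ⟶ LocallyDiscrete.mk C)
    (η : k ≅ f.toLoc ≫ g.toLoc) (M : ModuleCat.{u} A) (m : M) :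
    extComp f g k η M (one k.as.hom M m) = one g.hom _ (one f.hom M m) := by
  unfold extComp compApp
  obtain rfl : k = f.toLoc ≫ g.toLoc := LocallyDiscrete.eq_of_hom η.hom
  obtain rfl : η = Iso.refl _ := Iso.ext (Subsingleton.elim _ _)
  simp only [Iso.trans_hom, PrelaxFunctor.map₂Iso_hom, Iso.refl_hom, PrelaxFunctor.map₂_id, Category.id_comp]
  exact extendScalarsComp_hom_app_one_tmul f.hom g.hom M m

/-- The composition isomorphism of the pseudofunctor, as a map of modules. -/
irreducible_def mc {A B C : CommRingCat.{u}} (a : A ⟶ B) (b : B ⟶ C) (c : A ⟶ C)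
    (h : a.op.op.toLoc ≫ b.op.op.toLoc = c.op.op.toLoc) (M : ModuleCat.{u} (WT W A)) :
    (extendScalars (wf W c)).obj M ⟶ (extendScalars (wf W b)).obj ((extendScalars (wf W a)).obj M) :=
  mcE CommRingCat.moduleCatExtendScalarsPseudofunctor.{u} a b c h M

theorem mc_one {A B C : CommRingCat.{u}} (a : A ⟶ B) (b : B ⟶ C) (c : A ⟶ C)
    (h : a.op.op.toLoc ≫ b.op.op.toLoc = c.op.op.toLoc) (M : ModuleCat.{u} (WT W A)) (m : M) :
    mc a b c h M (one (wf W c) M m) = one (wf W b) _ (one (wf W a) M m) := by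
  obtain rfl : c = a ≫ b := by
    have := congrArg (fun t => t.as.unop.unop) h
    simpa using this.symm
  have e : mc a b (a ≫ b) h M = extComp (W.map a) (W.map b) _
      (((unopUnop CommRingCat.{u}) ⋙ W).toPseudofunctor.mapComp a.op.op.toLoc b.op.op.toLoc) M :=
    (mc_def a b (a ≫ b) h M).trans (mcE_eq CommRingCat.moduleCatExtendScalarsPseudofunctor.{u} a b h M)
  rw [e]
  exact ext_comp_one (W.map a) (W.map b) _
    (((unopUnop CommRingCat.{u}) ⋙ W).toPseudofunctor.mapComp a.op.op.toLoc b.op.op.toLoc) M m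

/-- The inverse of the composition isomorphism. -/
irreducible_def mcInv {A B C : CommRingCat.{u}} (a : A ⟶ B) (b : B ⟶ C) (c : A ⟶ C)
    (h : a.op.op.toLoc ≫ b.op.op.toLoc = c.op.op.toLoc) (M : ModuleCat.{u} (WT W A)) :
    (extendScalars (wf W b)).obj ((extendScalars (wf W a)).obj M) ⟶ (extendScalars (wf W c)).obj M :=
  mcInvE CommRingCat.moduleCatExtendScalarsPseudofunctor.{u} a b c h M

theorem mcInv_one {A B C : CommRingCat.{u}} (a : A ⟶ B) (b : B ⟶ C) (c : A ⟶ C)
    (h : a.op.op.toLoc ≫ b.op.op.toLoc = c.op.op.toLoc) (M : ModuleCat.{u} (WT W A)) (m : M) :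
    mcInv a b c h M (one (wf W b) _ (one (wf W a) M m)) = one (wf W c) M m := by
  rw [← mc_one a b c h M m]
  have e' : mc a b c h M ≫ mcInv a b c h M = 𝟙 _ := by
    rw [mc_def, mcInv_def]
    exact mcE_mcInvE CommRingCat.moduleCatExtendScalarsPseudofunctor.{u} a b c h M
  rw [← CategoryTheory.comp_apply, e', CategoryTheory.id_apply]

variable {R S : Type u} [CommRing R] [CommRing S] [Algebra R S]
variable (D : (funModPF W).DescentData (cov R S))

/-- The underlying module of the descent datum. -/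
def Nd : ModuleCat.{u} (WT W (CommRingCat.of S)) := D.obj PUnit.unit

variable {A A' : CommRingCat.{u}}

/-- The glueing map. -/
irreducible_def hm (a b : CommRingCat.of S ⟶ A) (h : Agree (R := R) a b) :
    (extendScalars (wf W a)).obj (Nd D) ⟶ (extendScalars (wf W b)).obj (Nd D) :=
  hmE CommRingCat.moduleCatExtendScalarsPseudofunctor.{u} D a b h

/-- The glueing map on generators. -/
def th (a b : CommRingCat.of S ⟶ A) (h : Agree (R := R) a b) (x : Nd D) :
    ↑((extendScalars (wf W b)).obj (Nd D)) :=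
  hm D a b h (one (wf W a) (Nd D) x)

/-- Change of rings on extended modules. -/
def chg (b : CommRingCat.of S ⟶ A) (g : A ⟶ A') :
    ↑((extendScalars (wf W b)).obj (Nd D)) →+ ↑((extendScalars (wf W (b ≫ g))).obj (Nd D)) :=
  AddMonoidHom.mk' (fun z => mcInv b g (b ≫ g) rfl (Nd D) (one (wf W g) _ z)) fun z w => by
    rw [one_add, map_add]

theorem chg_one (b : CommRingCat.of S ⟶ A) (g : A ⟶ A') (x : Nd D) :
    chg D b g (one (wf W b) _ x) = one (wf W (b ≫ g)) _ x :=
  mcInv_one b g (b ≫ g) rfl (Nd D) x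

theorem chg_smul (b : CommRingCat.of S ⟶ A) (g : A ⟶ A') (x : WT W A) (z) :
    chg D b g (x • z) = wf W g x • chg D b g z := by
  show mcInv b g (b ≫ g) rfl (Nd D) (one (wf W g) _ (x • z)) = _
  rw [one_smul', map_smul]
  rfl

theorem th_comp (a b : CommRingCat.of S ⟶ A) (h : Agree (R := R) a b) (g : A ⟶ A') (x : Nd D) :
    th D (a ≫ g) (b ≫ g) (h.comp g) x = chg D b g (th D a b h x) := by
  have e : mc a g (a ≫ g) rfl (Nd D) ≫ (extendScalars (wf W g)).map (hm D a b h) ≫
      mcInv b g (b ≫ g) rfl (Nd D) = hm D (a ≫ g) (b ≫ g) (h.comp g) := by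
    rw [mc_def, mcInv_def, hm_def, hm_def]
    exact hmE_pull CommRingCat.moduleCatExtendScalarsPseudofunctor.{u} D a b h g
  show hm D (a ≫ g) (b ≫ g) (h.comp g) (one (wf W (a ≫ g)) (Nd D) x) = _
  rw [← e, CategoryTheory.comp_apply, CategoryTheory.comp_apply, mc_one, map_one']
  rfl

theorem hm_comp (a b c : CommRingCat.of S ⟶ A) (hab : Agree (R := R) a b) (hbc : Agree (R := R) b c)
    (hac : Agree (R := R) a c) : hm D a b hab ≫ hm D b c hbc = hm D a c hac := by
  have e : ∀ (q : Opposite.op A ⟶ Opposite.op (CommRingCat.of R))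
      (_ : q = (CommRingCat.ofHom (algebraMap R S) ≫ b).op) (h1 : b.op ≫ cov R S PUnit.unit = q)
      (h2 : c.op ≫ cov R S PUnit.unit = q),
      D.hom q (i₁ := PUnit.unit) (i₂ := PUnit.unit) b.op c.op h1 h2 = hm D b c hbc := by
    intro q hq h1 h2
    subst hq
    rw [hm_def]
    rfl
  rw [hm_def D a b, hm_def D a c]
  unfold hmE
  rw [← e (CommRingCat.ofHom (algebraMap R S) ≫ a).op (congrArg Quiver.Hom.op hab)
    (congrArg Quiver.Hom.op hab).symm (congrArg Quiver.Hom.op hac).symm]
  exact D.hom_comp _ _ _ _ _ _ _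

theorem hm_self (a : CommRingCat.of S ⟶ A) : hm D a a rfl = 𝟙 _ := by
  rw [hm_def]
  exact D.hom_self _ _ rfl

section Coord

variable {r : ℕ} (π : (Fin r → WT W (CommRingCat.of S)) →ₗ[WT W (CommRingCat.of S)] Nd D)
  (σ : Nd D →ₗ[WT W (CommRingCat.of S)] (Fin r → WT W (CommRingCat.of S))) (hπσ : ∀ x, π (σ x) = x)

/-- Coordinates on an extended module. -/
def coord (b : CommRingCat.of S ⟶ A) :
    (extendScalars (wf W b)).obj (Nd D) ⟶ ModuleCat.of (WT W A) (Fin r → WT W A) :=
  ((extendRestrictScalarsAdj (wf W b)).homEquiv _ _).symm (ModuleCat.ofHom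
    (Y := (restrictScalars (wf W b)).obj (ModuleCat.of (WT W A) (Fin r → WT W A)))
    { toFun := fun (x : Nd D) => (fun i => wf W b (σ x i) : Fin r → WT W A)
      map_add' := fun x y => funext fun i => by
        show wf W b (σ (x + y) i) = wf W b (σ x i) + wf W b (σ y i)
        rw [map_add, Pi.add_apply, map_add]
      map_smul' := fun (s : WT W (CommRingCat.of S)) (x : Nd D) => funext fun i => by
        show wf W b (σ (s • x) i) = wf W b s * wf W b (σ x i)
        rw [map_smul, Pi.smul_apply, smul_eq_mul, map_mul] })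

theorem coord_one (b : CommRingCat.of S ⟶ A) (x : Nd D) :
    coord D σ b (one (wf W b) _ x) = fun i => wf W b (σ x i) := by
  have h := extendRestrictScalarsAdj_homEquiv_apply (f := wf W b) (coord D σ b) x
  rw [coord, Equiv.apply_symm_apply] at h
  exact h.symm

/-- The standard generators of an extended module. -/
def gen (b : CommRingCat.of S ⟶ A) (i : Fin r) : ↑((extendScalars (wf W b)).obj (Nd D)) :=
  one (wf W b) _ (π (Pi.single i 1))

include hπσ in
theorem eq_sum_gen (b : CommRingCat.of S ⟶ A) (z : ↑((extendScalars (wf W b)).obj (Nd D))) :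
    ∑ i, (coord D σ b z : Fin r → WT W A) i • gen D π b i = z := by
  induction z using induction_one with
  | h0 =>
    simp only [map_zero]
    exact Finset.sum_eq_zero fun i _ => zero_smul _ _
  | hadd x y hx hy =>
    simp only [map_add]
    show ∑ i, ((coord D σ b x : Fin r → WT W A) i + (coord D σ b y : Fin r → WT W A) i) • gen D π b i = _
    simp only [add_smul, Finset.sum_add_distrib, hx, hy]
  | h s x =>
    have hc : (coord D σ b (s • one (wf W b) _ x) : Fin r → WT W A) = fun i => s * wf W b (σ x i) := by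
      rw [map_smul]
      exact funext fun i => congrArg (s * ·) (congrFun (coord_one D σ b x) i)
    refine (Finset.sum_congr rfl fun i _ => congrArg (· • gen D π b i) (congrFun hc i)).trans ?_
    simp only [gen, mul_smul, ← one_smul', ← Finset.smul_sum]
    congr 1
    let o : Nd D →+ ↑((extendScalars (wf W b)).obj (Nd D)) :=
      AddMonoidHom.mk' (one (wf W b) (Nd D)) (one_add _ _)
    show ∑ i, o (σ x i • π (Pi.single i 1)) = o x
    rw [← map_sum]
    congr 1
    simp only [← map_smul, ← map_sum]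
    rw [← pi_eq_sum_univ' (σ x), hπσ]

/-- The matrix of the glueing map. -/
def GM (a b : CommRingCat.of S ⟶ A) (h : Agree (R := R) a b) : Matrix (Fin r) (Fin r) (WT W A) :=
  fun i j => (coord D σ b (th D a b h (π (Pi.single j 1))) : Fin r → WT W A) i

/-- The idempotent of the presentation. -/
def fM : Matrix (Fin r) (Fin r) (WT W (CommRingCat.of S)) := fun i j => σ (π (Pi.single j 1)) i

include hπσ in
theorem coord_hm (a b : CommRingCat.of S ⟶ A) (h : Agree (R := R) a b)
    (z : ↑((extendScalars (wf W a)).obj (Nd D))) :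
    (coord D σ b (hm D a b h z) : Fin r → WT W A) =
      (GM D π σ a b h).mulVec (coord D σ a z : Fin r → WT W A) := by
  conv_lhs => rw [← eq_sum_gen D π σ hπσ a z, map_sum, map_sum]
  funext i
  refine (Finset.sum_apply i _ _).trans ?_
  simp only [map_smul, Matrix.mulVec, dotProduct]
  refine Finset.sum_congr rfl fun j _ => ?_
  exact mul_comm _ _

include hπσ in
theorem fM_mulVec (x : Nd D) : (fM D π σ).mulVec (σ x) = σ x := by
  conv_rhs => rw [← hπσ x, pi_eq_sum_univ' (σ x), map_sum, map_sum]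
  funext i
  simp only [map_smul, Matrix.mulVec, dotProduct, Finset.sum_apply, Pi.smul_apply, smul_eq_mul, fM]
  exact Finset.sum_congr rfl fun j _ => mul_comm _ _

theorem GM_self (a : CommRingCat.of S ⟶ A) : GM D π σ a a rfl = (fM D π σ).map (wf W a) := by
  refine Matrix.ext fun i j => ?_
  show (coord D σ a (th D a a rfl (π (Pi.single j 1))) : Fin r → WT W A) i = _
  rw [th, hm_self]
  exact congrFun (coord_one D σ a (π (Pi.single j 1))) i

include hπσ in
theorem GM_comp (a b c : CommRingCat.of S ⟶ A) (hab : Agree (R := R) a b) (hbc : Agree (R := R) b c)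
    (hac : Agree (R := R) a c) : GM D π σ b c hbc * GM D π σ a b hab = GM D π σ a c hac := by
  refine Matrix.ext fun i j => ?_
  have := congrFun (coord_hm D π σ hπσ b c hbc (th D a b hab (π (Pi.single j 1)))) i
  rw [show hm D b c hbc (th D a b hab (π (Pi.single j 1))) = th D a c hac (π (Pi.single j 1)) from by
    rw [th, th, ← CategoryTheory.comp_apply, hm_comp]] at this
  exact this.symm

theorem coord_chg (b : CommRingCat.of S ⟶ A) (g : A ⟶ A') (z : ↑((extendScalars (wf W b)).obj (Nd D))) :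
    (coord D σ (b ≫ g) (chg D b g z) : Fin r → WT W A') =
      fun i => wf W g ((coord D σ b z : Fin r → WT W A) i) := by
  induction z using induction_one with
  | h0 =>
    simp only [map_zero]
    exact funext fun i => (map_zero (wf W g)).symm
  | hadd x y hx hy =>
    simp only [map_add, hx, hy]
    exact funext fun i => (map_add (wf W g) _ _).symm
  | h s x =>
    rw [chg_smul, chg_one, map_smul, map_smul, coord_one, coord_one]
    funext i
    show wf W g s * wf W (b ≫ g) (σ x i) = wf W g (s * wf W b (σ x i))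
    rw [map_mul, wf_comp_apply]

theorem GM_map (a b : CommRingCat.of S ⟶ A) (h : Agree (R := R) a b) (g : A ⟶ A') :
    GM D π σ (a ≫ g) (b ≫ g) (h.comp g) = (GM D π σ a b h).map (wf W g) := by
  refine Matrix.ext fun i j => ?_
  show (coord D σ (b ≫ g) (th D (a ≫ g) (b ≫ g) (h.comp g) (π (Pi.single j 1))) : Fin r → WT W A') i = _
  rw [th_comp, coord_chg]
  rfl

end Coord

open Groth.Agent.TorsTriv25 (q0 q1 pair01 pair12 pair02 diagHom)

/-- The first projection. -/
abbrev cq0 (R S : Type u) [CommRing R] [CommRing S] [Algebra R S] :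
    CommRingCat.of S ⟶ CommRingCat.of (S ⊗[R] S) := CommRingCat.ofHom (q0 (A := R) (B := S)).toRingHom

/-- The second projection. -/
abbrev cq1 (R S : Type u) [CommRing R] [CommRing S] [Algebra R S] :
    CommRingCat.of S ⟶ CommRingCat.of (S ⊗[R] S) := CommRingCat.ofHom (q1 (A := R) (B := S)).toRingHom

theorem agree_alg {B : Type u} [CommRing B] [Algebra R B] (a b : S →ₐ[R] B) :
    Agree (R := R) (CommRingCat.ofHom a.toRingHom) (CommRingCat.ofHom b.toRingHom) := by
  unfold Agree
  ext x
  exact (a.commutes x).trans (b.commutes x).symm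

theorem agree_q : Agree (R := R) (cq0 R S) (cq1 R S) := agree_alg q0 q1

/-- The comparison map from the universal pair. -/
theorem exists_classify (a b : CommRingCat.of S ⟶ A) (h : Agree (R := R) a b) :
    ∃ g : CommRingCat.of (S ⊗[R] S) ⟶ A, a = cq0 R S ≫ g ∧ b = cq1 R S ≫ g := by
  let algA : Algebra R A := (a.hom.comp (algebraMap R S)).toAlgebra
  let a' : S →ₐ[R] A := { a.hom with commutes' := fun r => rfl }
  let b' : S →ₐ[R] A := { b.hom with commutes' := fun r => (congr($(h).hom r)).symm }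
  refine ⟨CommRingCat.ofHom (Algebra.TensorProduct.lift a' b' fun x y => Commute.all _ _).toRingHom, ?_, ?_⟩
  · ext s
    show a.hom s = Algebra.TensorProduct.lift a' b' (fun x y => Commute.all _ _) (s ⊗ₜ 1)
    rw [Algebra.TensorProduct.lift_tmul, map_one, mul_one]
    rfl
  · ext s
    show b.hom s = Algebra.TensorProduct.lift a' b' (fun x y => Commute.all _ _) (1 ⊗ₜ s)
    rw [Algebra.TensorProduct.lift_tmul, map_one, one_mul]
    rfl

variable {r : ℕ} (π : (Fin r → WT W (CommRingCat.of S)) →ₗ[WT W (CommRingCat.of S)] Nd D)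
  (σ : Nd D →ₗ[WT W (CommRingCat.of S)] (Fin r → WT W (CommRingCat.of S))) (hπσ : ∀ x, π (σ x) = x)

/-- The universal matrix cocycle. -/
def GU : Matrix (Fin r) (Fin r) (WT W (CommRingCat.of (S ⊗[R] S))) := GM D π σ (cq0 R S) (cq1 R S) agree_q

theorem GM_of_eq {a a' b b' : CommRingCat.of S ⟶ A} (ha : a = a') (hb : b = b') (h : Agree (R := R) a b)
    (h' : Agree (R := R) a' b') : GM D π σ a b h = GM D π σ a' b' h' := by
  subst ha hb
  rfl

/-- The map induced by an algebra map. -/
abbrev wal (W : CommRingCat.{u} ⥤ CommRingCat.{u}) {B C : Type u} [CommRing B] [CommRing C] [Algebra R B]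
    [Algebra R C] (f : B →ₐ[R] C) : WT W (CommRingCat.of B) →+* WT W (CommRingCat.of C) :=
  wf W (CommRingCat.ofHom f.toRingHom)

include hπσ in
theorem GU_spec :
    fM D π σ * fM D π σ = fM D π σ ∧ GU D π σ * (fM D π σ).map (wal W (q0 (A := R))) = GU D π σ ∧
      (fM D π σ).map (wal W (q1 (A := R))) * GU D π σ = GU D π σ ∧
      (GU D π σ).map (wal W diagHom) = fM D π σ ∧
      (GU D π σ).map (wal W pair12) * (GU D π σ).map (wal W pair01) = (GU D π σ).map (wal W pair02) := by
  have hid : GM D π σ (𝟙 _) (𝟙 _) rfl = fM D π σ := by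
    rw [GM_self]
    exact Matrix.ext fun i j => wf_id_apply _
  have nat : ∀ {B : Type u} [CommRing B] [Algebra R B] (g : S ⊗[R] S →ₐ[R] B) (a b : S →ₐ[R] B)
      (_ : g.comp q0 = a) (_ : g.comp q1 = b),
      (GU D π σ).map (wal W g) = GM D π σ (CommRingCat.ofHom a.toRingHom) (CommRingCat.ofHom b.toRingHom) (agree_alg a b) := by
    intro B _ _ g a b ha hb
    subst ha hb
    exact (GM_map D π σ (cq0 R S) (cq1 R S) agree_q (CommRingCat.ofHom g.toRingHom)).symm
  refine ⟨?_, ?_, ?_, ?_, ?_⟩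
  · have := GM_comp D π σ hπσ (𝟙 _) (𝟙 _) (𝟙 _) rfl rfl rfl
    rwa [hid] at this
  · have := GM_comp D π σ hπσ (cq0 R S) (cq0 R S) (cq1 R S) rfl agree_q agree_q
    rwa [GM_self] at this
  · have := GM_comp D π σ hπσ (cq0 R S) (cq1 R S) (cq1 R S) agree_q rfl agree_q
    rwa [GM_self] at this
  · rw [nat diagHom (AlgHom.id R S) (AlgHom.id R S) (AlgHom.ext fun x => by simp) (AlgHom.ext fun x => by simp)]
    exact hid
  · rw [nat pair12 TorsTriv25.p1 TorsTriv25.p2 rfl rfl,
      nat pair01 TorsTriv25.p0 TorsTriv25.p1 TorsTriv25.pair01_q0 TorsTriv25.pair01_q1,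
      nat pair02 TorsTriv25.p0 TorsTriv25.p2 TorsTriv25.pair02_q0 TorsTriv25.pair02_q1]
    exact GM_comp D π σ hπσ _ _ _ _ _ _

variable {p : ℕ} [Fact p.Prime] {n : ℕ}

/-- The matrix form of descent also for length zero. -/
theorem wittDescent' {A B : Type u} [CommRing A] [CommRing B] [Algebra A B] [Module.FaithfullyFlat A B]
    (hpA : IsNilpotent (p : A)) {ι : Type} [Fintype ι] [DecidableEq ι]
    (f : Matrix ι ι (TruncatedWittVector p n B)) (G : Matrix ι ι (TruncatedWittVector p n (B ⊗[A] B)))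
    (hf : f * f = f) (hG0 : G * f.map (wm p _ q0) = G) (hG1 : f.map (wm p _ q1) * G = G)
    (h1 : G.map (wm p _ diagHom) = f)
    (h2 : G.map (wm p _ pair12) * G.map (wm p _ pair01) = G.map (wm p _ pair02)) :
    ∃ (k : ℕ) (e : Matrix (Fin k) (Fin k) (TruncatedWittVector p n A))
      (u : Matrix (Fin k) ι (TruncatedWittVector p n B)) (v : Matrix ι (Fin k) (TruncatedWittVector p n B)),
      e * e = e ∧ u * v = e.map (wa p A B _) ∧ v * u = f ∧ G = v.map (wm p _ q1) * u.map (wm p _ q0) := by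
  cases n with
  | zero =>
    have hs : ∀ (C : Type u) [CommRing C] (x y : TruncatedWittVector p 0 C), x = y :=
      fun C _ x y => TruncatedWittVector.ext fun i => i.elim0
    exact ⟨0, 0, 0, 0, Matrix.ext fun i => i.elim0, Matrix.ext fun i => i.elim0, Matrix.ext fun i j => hs _ _ _,
      Matrix.ext fun i j => hs _ _ _⟩
  | succ m => exact wittDescent p hpA f G hf hG0 hG1 h1 h2

end Groth.Agent.WittDesc2
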