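import Groth.Agent.Lib.TorsTriv25.Ring
import Groth.Agent.Lib.CAlgLow.ProjCrit
import Mathlib.RingTheory.Flat.FaithfullyFlat.Descent
import Mathlib.Data.Matrix.Block
import Mathlib.Data.Matrix.ColumnRowPartitioned
import Mathlib.RingTheory.Finiteness.Descent
import Mathlib.LinearAlgebra.Matrix.ToLin

/-!
# Faithfully flat descent in terms of matrices
-/

set_option autoImplicit false

universe u

open TensorProduct Matrix
open Groth.Agent.TorsTriv25 (q0 q1 pair01 pair12 pair02 diagHom)

noncomputable section

namespace Groth.Agent.WittDesc2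

section MapMul

variable {α β F : Type*} [CommRing α] [CommRing β] [FunLike F α β] [RingHomClass F α β]
  {l m n : Type*}

theorem map_mul' [Fintype m] (f : F) (L : Matrix l m α) (M : Matrix m n α) :
    (L * M).map f = L.map f * M.map f := Matrix.map_mul (f := RingHomClass.toRingHom f)

theorem map_mulVec' [Fintype m] (f : F) (L : Matrix l m α) (v : m → α) :
    (fun i => f (L.mulVec v i)) = (L.map f).mulVec fun j => f (v j) :=
  funext fun i => RingHom.map_mulVec (RingHomClass.toRingHom f) L v i

theorem map_add' (f : F) (L M : Matrix l m α) : (L + M).map f = L.map f + M.map f :=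
  Matrix.map_add f (map_add f) L M

theorem map_sub' (f : F) (L M : Matrix l m α) : (L - M).map f = L.map f - M.map f :=
  Matrix.map_sub f (map_sub f) L M

end MapMul

section AlgHomMap

variable {A B C : Type*} [CommRing A] [CommRing B] [Algebra A B] [CommRing C] [Algebra A C] {l m : Type*}

theorem map_algebraMap' (f : B →ₐ[A] C) (M : Matrix l m A) :
    (M.map (algebraMap A B)).map f = M.map (algebraMap A C) := by
  ext i j
  exact f.commutes _

theorem map_smul_alg (f : B →ₐ[A] C) (c : A) (M : Matrix l m B) : (c • M).map f = c • M.map f := by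
  ext i j
  exact map_smul f c (M i j)

end AlgHomMap

variable {A B : Type u} [CommRing A] [CommRing B] [Algebra A B]

/-- `x ⊗ (y ⊗ z) ↦ x ⊗ y z` -/
abbrev mulRight : B ⊗[A] (B ⊗[A] B) →ₐ[A] B ⊗[A] B :=
  Algebra.TensorProduct.map (AlgHom.id A B) (Algebra.TensorProduct.lmul' A)

/-- `x ⊗ (y ⊗ z) ↦ x y ⊗ z` -/
abbrev mulLeft : B ⊗[A] (B ⊗[A] B) →ₐ[A] B ⊗[A] B :=
  Algebra.TensorProduct.lift q0 (AlgHom.id A (B ⊗[A] B)) fun _ _ => Commute.all _ _

theorem mulRight_pair01 (z : B ⊗[A] B) : mulRight (pair01 z) = z := by
  induction z using TensorProduct.induction_on with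
  | zero => simp
  | add a b ha hb => rw [map_add, map_add, ha, hb]
  | tmul a b => simp

theorem mulRight_pair02 (z : B ⊗[A] B) : mulRight (pair02 z) = z := by
  induction z using TensorProduct.induction_on with
  | zero => simp
  | add a b ha hb => rw [map_add, map_add, ha, hb]
  | tmul a b => simp

theorem mulRight_pair12 (z : B ⊗[A] B) : mulRight (pair12 z) = q1 (A := A) (diagHom z) := by
  induction z using TensorProduct.induction_on with
  | zero => simp
  | add a b ha hb => rw [map_add, map_add, map_add, map_add, ha, hb]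
  | tmul a b => simp

theorem mulLeft_pair12 (z : B ⊗[A] B) : mulLeft (pair12 z) = z := by
  induction z using TensorProduct.induction_on with
  | zero => simp
  | add a b ha hb => rw [map_add, map_add, ha, hb]
  | tmul a b => simp [Algebra.TensorProduct.one_def]

theorem mulLeft_pair02 (z : B ⊗[A] B) : mulLeft (pair02 z) = z := by
  induction z using TensorProduct.induction_on with
  | zero => simp
  | add a b ha hb => rw [map_add, map_add, ha, hb]
  | tmul a b => simp

theorem mulLeft_pair01 (z : B ⊗[A] B) : mulLeft (pair01 z) = q0 (A := A) (diagHom z) := by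
  induction z using TensorProduct.induction_on with
  | zero => simp
  | add a b ha hb => rw [map_add, map_add, map_add, map_add, ha, hb]
  | tmul a b => simp

section Cocycle

variable {ι : Type} [Fintype ι] (G : Matrix ι ι (B ⊗[A] B)) (h2 : G.map pair12 * G.map pair01 = G.map pair02)

include h2 in
theorem cocycle_q1_mul : (G.map diagHom).map q1 * G = G := by
  have h := congrArg (fun M => M.map (mulRight (A := A) (B := B))) h2
  simp only [map_mul', Matrix.map_map] at h
  rw [show (mulRight (A := A) (B := B) ∘ pair12) = q1 ∘ diagHom from funext mulRight_pair12,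
    show (mulRight (A := A) (B := B) ∘ pair01) = id from funext mulRight_pair01,
    show (mulRight (A := A) (B := B) ∘ pair02) = id from funext mulRight_pair02, Matrix.map_id] at h
  rw [Matrix.map_map]
  exact h

include h2 in
theorem cocycle_mul_q0 : G * (G.map diagHom).map q0 = G := by
  have h := congrArg (fun M => M.map (mulLeft (A := A) (B := B))) h2
  simp only [map_mul', Matrix.map_map] at h
  rw [show (mulLeft (A := A) (B := B) ∘ pair12) = id from funext mulLeft_pair12,
    show (mulLeft (A := A) (B := B) ∘ pair01) = q0 ∘ diagHom from funext mulLeft_pair01,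
    show (mulLeft (A := A) (B := B) ∘ pair02) = id from funext mulLeft_pair02, Matrix.map_id] at h
  rw [Matrix.map_map]
  exact h

include h2 in
theorem cocycle_diag_idem : G.map diagHom * G.map diagHom = G.map diagHom := by
  have h := congrArg (fun M => M.map (diagHom (A := A) (B := B))) (cocycle_mul_q0 G h2)
  simp only [map_mul', Matrix.map_map] at h
  rwa [show ((diagHom (A := A) (B := B)) ∘ q0 ∘ diagHom) = diagHom from funext fun z => by simp] at h

end Cocycle

variable [Module.FaithfullyFlat A B]

omit [Module.FaithfullyFlat A B] in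
theorem mk_eq_tmul (M : Type u) [AddCommGroup M] [Module A M] (x : M) :
    TensorProduct.mk A B M 1 x = (1 : B) ⊗ₜ[A] x := rfl

/-- A vector equalised by the two projections descends. -/
theorem exists_of_q0_eq_q1 {b : B} (h : q0 (A := A) b = q1 b) : ∃ a, algebraMap A B a = b := by
  obtain ⟨a, ha⟩ := (Amitsur12.exact_zero A B A (b ⊗ₜ[A] (1 : A))).1 (by
    have h2 := congrArg ((TensorProduct.rid A B).symm.toLinearMap.lTensor B)
      (show b ⊗ₜ[A] (1 : B) = (1 : B) ⊗ₜ[A] b from h)
    simp only [LinearMap.lTensor_tmul, LinearEquiv.coe_coe, TensorProduct.rid_symm_apply] at h2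
    simp [← h2])
  refine ⟨a, ?_⟩
  have := congrArg (TensorProduct.rid A B) ha
  simpa [Algebra.smul_def] using this

/-- Linear systems over `A` solvable over `B` are solvable over `A`. -/
theorem exists_mulVec_eq {ι κ : Type} [Fintype ι] [Fintype κ] (V : Matrix ι κ A) (b : ι → A) (y : κ → B)
    (h : (V.map (algebraMap A B)).mulVec y = fun i => algebraMap A B (b i)) : ∃ s, V.mulVec s = b := by
  classical
  let q := (LinearMap.range V.mulVecLin).mkQ
  suffices hq : q b = 0 by
    obtain ⟨s, hs⟩ := (Submodule.Quotient.mk_eq_zero _).1 hq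
    exact ⟨s, hs⟩
  refine Module.FaithfullyFlat.tensorProduct_mk_injective (A := A) (B := B) _ ?_
  rw [map_zero, mk_eq_tmul]
  have hrow : ∀ i, algebraMap A B (b i) ⊗ₜ[A] q (Pi.single i 1) =
      ∑ j, y j ⊗ₜ[A] (V i j • q (Pi.single i 1)) := fun i => by
    rw [← congrFun h i]
    simp only [Matrix.mulVec, dotProduct, Matrix.map_apply, TensorProduct.sum_tmul]
    refine Finset.sum_congr rfl fun j _ => ?_
    rw [← Algebra.smul_def, TensorProduct.smul_tmul]
  calc (1 : B) ⊗ₜ[A] q b = ∑ i, algebraMap A B (b i) ⊗ₜ[A] q (Pi.single i 1) := by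
        conv_lhs => rw [pi_eq_sum_univ' b, map_sum, TensorProduct.tmul_sum]
        refine Finset.sum_congr rfl fun i _ => ?_
        rw [Algebra.algebraMap_eq_smul_one, TensorProduct.smul_tmul, map_smul]
    _ = 0 := by
        simp only [hrow]
        rw [Finset.sum_comm]
        refine Finset.sum_eq_zero fun j _ => ?_
        rw [← TensorProduct.tmul_sum]
        simp only [← map_smul, ← map_sum]
        have : q (∑ i, V i j • (Pi.single i 1 : ι → A)) = 0 := by
          refine (Submodule.Quotient.mk_eq_zero _).2 ⟨Pi.single j 1, ?_⟩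
          ext i
          simp [Matrix.col_def, Finset.sum_apply, Pi.single_apply]
        rw [this, TensorProduct.tmul_zero]

/-- Matrix form of faithfully flat descent of finite projective modules. -/
theorem matDescent {ι : Type} [Fintype ι] [DecidableEq ι] (f : Matrix ι ι B) (G : Matrix ι ι (B ⊗[A] B))
    (h1 : G.map diagHom = f) (h2 : G.map pair12 * G.map pair01 = G.map pair02) :
    ∃ (k : ℕ) (e : Matrix (Fin k) (Fin k) A) (u : Matrix (Fin k) ι B) (v : Matrix ι (Fin k) B),
      e * e = e ∧ u * v = e.map (algebraMap A B) ∧ v * u = f ∧ v * e.map (algebraMap A B) = v ∧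
        G = v.map q1 * u.map q0 := by
  classical
  have hf : f * f = f := by rw [← h1]; exact cocycle_diag_idem G h2
  have hG0 : G * f.map q0 = G := by rw [← h1]; exact cocycle_mul_q0 G h2
  have hG1 : f.map q1 * G = G := by rw [← h1]; exact cocycle_q1_mul G h2
  let N : Submodule B (ι → B) := LinearMap.range f.mulVecLin
  have hN : ∀ n : N, f.mulVec n.1 = n.1 := by
    rintro ⟨_, x, rfl⟩
    show f.mulVec (f.mulVec x) = f.mulVec x
    rw [Matrix.mulVec_mulVec, hf]
  let gen : ι → N := fun i => ⟨f.mulVec (Pi.single i 1), LinearMap.mem_range_self f.mulVecLin _⟩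
  let co : ι → (N →ₗ[A] B) := fun i => ((LinearMap.proj i).comp N.subtype).restrictScalars A
  let sp : ι → (B →ₗ[A] N) := fun i => (LinearMap.toSpanSingleton B N (gen i)).restrictScalars A
  have hsum : ∀ n : N, ∑ i, sp i (co i n) = n := fun n => by
    apply Subtype.ext
    show ((∑ i, (n.1 i) • gen i : N) : ι → B) = n.1
    rw [Submodule.coe_sum]
    simp only [Submodule.coe_smul, gen, ← Matrix.mulVec_smul, ← Matrix.mulVec_sum]
    rw [← pi_eq_sum_univ' n.1, hN]
  have hcosp : ∀ i j (t : B), co j (sp i t) = f j i * t := fun i j t => by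
    show t * (f.mulVec (Pi.single i 1)) j = f j i * t
    simp [mul_comm]
  let Φ : (ι → B ⊗[A] B) → B ⊗[A] N := fun w => ∑ i, (sp i).lTensor B (w i)
  let E : B ⊗[A] N → (ι → B ⊗[A] B) := fun z i => (co i).lTensor B z
  have hΦE : ∀ z, Φ (E z) = z := fun z => by
    show ∑ i, (sp i).lTensor B ((co i).lTensor B z) = z
    induction z using TensorProduct.induction_on with
    | zero => simp
    | add a b ha hb => simp only [map_add, Finset.sum_add_distrib, ha, hb]
    | tmul s n => simp only [LinearMap.lTensor_tmul, ← TensorProduct.tmul_sum, hsum]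
  have hcs : ∀ i j (w : B ⊗[A] B), (co j).lTensor B ((sp i).lTensor B w) = q1 (f j i) * w := fun i j w => by
    induction w using TensorProduct.induction_on with
    | zero => simp
    | add a b ha hb => simp only [map_add, ha, hb, mul_add]
    | tmul s t =>
      simp only [LinearMap.lTensor_tmul, hcosp]
      show s ⊗ₜ[A] (f j i * t) = ((1 : B) ⊗ₜ[A] f j i) * (s ⊗ₜ[A] t)
      rw [Algebra.TensorProduct.tmul_mul_tmul, one_mul]
  have hEΦ : ∀ w, E (Φ w) = (f.map q1).mulVec w := fun w => funext fun j => by
    show (co j).lTensor B (∑ i, (sp i).lTensor B (w i)) = _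
    simp only [map_sum, hcs]
    rfl
  have hleft : ∀ i (s : B) (w : B ⊗[A] B), (sp i).lTensor B (q0 (A := A) s * w) = s • (sp i).lTensor B w :=
    fun i s w => by
      induction w using TensorProduct.induction_on with
      | zero => simp
      | add a b ha hb => simp only [mul_add, map_add, ha, hb, smul_add]
      | tmul a b =>
        show (sp i).lTensor B ((s ⊗ₜ[A] (1 : B)) * (a ⊗ₜ[A] b)) = _
        rw [Algebra.TensorProduct.tmul_mul_tmul, one_mul, LinearMap.lTensor_tmul, LinearMap.lTensor_tmul,
          TensorProduct.smul_tmul', smul_eq_mul]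
  let ρ : N →ₗ[B] B ⊗[A] N :=
    { toFun := fun n => Φ (G.mulVec fun l => q0 (n.1 l))
      map_add' := fun a b => by
        show ∑ i, (sp i).lTensor B _ = (∑ i, (sp i).lTensor B _) + ∑ i, (sp i).lTensor B _
        rw [← Finset.sum_add_distrib]
        refine Finset.sum_congr rfl fun i _ => ?_
        rw [← map_add, ← Pi.add_apply, ← Matrix.mulVec_add]
        congr 2
        ext l
        simp [TensorProduct.add_tmul]
      map_smul' := fun s n => by
        show ∑ i, (sp i).lTensor B _ = s • ∑ i, (sp i).lTensor B _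
        rw [Finset.smul_sum]
        refine Finset.sum_congr rfl fun i _ => ?_
        rw [← hleft]
        congr 1
        rw [← smul_eq_mul (a := q0 (A := A) s), ← Pi.smul_apply, ← Matrix.mulVec_smul]
        congr 2
        ext l
        show q0 (A := A) (s * n.1 l) = q0 s * q0 (n.1 l)
        exact map_mul _ _ _ }
  have hEρ : ∀ n, E (ρ n) = G.mulVec fun l => q0 (n.1 l) := fun n => by
    show E (Φ _) = _
    rw [hEΦ, Matrix.mulVec_mulVec, hG1]
  have hmul : ∀ (z : B ⊗[A] N) i, (ModDesc12.mulMap (R := A) z : N).1 i = diagHom (E z i) := fun z i => by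
    show _ = diagHom ((co i).lTensor B z)
    induction z using TensorProduct.induction_on with
    | zero => simp
    | add a b ha hb => simp only [map_add, Submodule.coe_add, Pi.add_apply, ha, hb]
    | tmul s n => simp [co]
  have hε : ∀ n, ModDesc12.mulMap (R := A) (S := B) (N := N) (ρ n) = n := fun n => Subtype.ext (funext fun i => by
    rw [hmul, hEρ]
    refine (congrFun (map_mulVec' (diagHom (A := A) (B := B)) G _) i).trans ?_
    rw [h1]
    refine Eq.trans ?_ (congrFun (hN n) i)
    congr 2
    ext l
    simp)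
  have hlρ : ∀ i (z : B ⊗[A] N), LinearMap.lTensor B (co i |>.lTensor B) (LinearMap.lTensor B (ρ.restrictScalars A) z) =
      (G.map pair12).mulVec (fun j => pair01 (E z j)) i := fun i z => by
    induction z using TensorProduct.induction_on with
    | zero =>
      simp only [map_zero, E]
      exact (congrFun (Matrix.mulVec_zero (G.map pair12)) i).symm
    | add a b ha hb =>
      simp only [map_add, ha, hb, E]
      rw [← Pi.add_apply, ← Matrix.mulVec_add]
      rfl
    | tmul s n =>
      simp only [LinearMap.lTensor_tmul, LinearMap.restrictScalars_apply]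
      rw [show (co i).lTensor B (ρ n) = _ from congrFun (hEρ n) i]
      simp only [Matrix.mulVec, dotProduct, Matrix.map_apply, TensorProduct.tmul_sum]
      refine Finset.sum_congr rfl fun j _ => ?_
      show s ⊗ₜ[A] (G i j * (n.1 j ⊗ₜ[A] (1 : B))) = ((1 : B) ⊗ₜ[A] G i j) * (s ⊗ₜ[A] (n.1 j ⊗ₜ[A] (1 : B)))
      rw [Algebra.TensorProduct.tmul_mul_tmul, one_mul]
  have hlι : ∀ i (z : B ⊗[A] N), LinearMap.lTensor B (co i |>.lTensor B)
      (LinearMap.lTensor B (ModDesc12.ι (R := A) (S := B) (N := N)) z) = pair02 (E z i) := fun i z => by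
    show _ = pair02 ((co i).lTensor B z)
    induction z using TensorProduct.induction_on with
    | zero => simp
    | add a b ha hb => simp only [map_add, ha, hb]
    | tmul s n => simp [ModDesc12.ι]
  have hc : ∀ n, LinearMap.lTensor B (ρ.restrictScalars A) (ρ n) =
      LinearMap.lTensor B (ModDesc12.ι (R := A) (S := B) (N := N)) (ρ n) := fun n => by
    have hinj : ∀ x : B ⊗[A] (B ⊗[A] N), x = ∑ i, LinearMap.lTensor B ((sp i).lTensor B)
        (LinearMap.lTensor B ((co i).lTensor B) x) := fun x => by
      induction x using TensorProduct.induction_on with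
      | zero => simp
      | add a b ha hb => simp only [map_add, Finset.sum_add_distrib, ← ha, ← hb]
      | tmul s y => simp only [LinearMap.lTensor_tmul, ← TensorProduct.tmul_sum]; rw [show ∑ i, (sp i).lTensor B ((co i).lTensor B y) = y from hΦE y]
    rw [hinj (LinearMap.lTensor B (ρ.restrictScalars A) (ρ n)), hinj (LinearMap.lTensor B ModDesc12.ι (ρ n))]
    refine Finset.sum_congr rfl fun i _ => ?_
    rw [hlρ, hlι, hEρ]
    congr 1
    have e := congrFun (map_mulVec' (pair01 (A := A) (B := B)) G fun l => q0 (n.1 l))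
    rw [show (fun j => pair01 (G.mulVec (fun l => q0 (n.1 l)) j)) = _ from funext e, Matrix.mulVec_mulVec, h2]
    refine Eq.trans ?_ (congrFun (map_mulVec' (pair02 (A := A) (B := B)) G fun l => q0 (n.1 l)) i).symm
    congr 2
  -- the descended module
  let M := ModDesc12.fixed ρ
  have hM : ∀ m : M, ∀ i, G.mulVec (fun l => q0 (m.1.1 l)) i = q1 (m.1.1 i) := fun m i => by
    rw [← congrFun (hEρ m.1) i, (ModDesc12.mem_fixed ρ _).1 m.2]
    rfl
  let μ : B ⊗[A] M ≃ₗ[B] N := LinearEquiv.ofBijective _ (ModDesc12.bijective_mult ρ hε hc)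
  haveI : Module.Projective B N := Module.Projective.of_split N.subtype f.mulVecLin.rangeRestrict
    (LinearMap.ext fun n => Subtype.ext (hN n))
  haveI : Module.Projective B (B ⊗[A] M) := Module.Projective.of_equiv μ.symm
  haveI : Module.Finite B (B ⊗[A] M) := Module.Finite.equiv μ.symm
  haveI : Module.Finite A M := Module.Finite.of_finite_tensorProduct_of_faithfullyFlat (M := M) B
  haveI : Module.Projective A M := CAlgLow.projective_of_faithfullyFlat (S := B) (M := M)
  obtain ⟨k, π, hπ⟩ := Module.Finite.exists_fin' A M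
  obtain ⟨σ, hσ⟩ := Module.projective_lifting_property π LinearMap.id hπ
  have hσπ : ∀ m, π (σ m) = m := fun m => LinearMap.congr_fun hσ m
  let e : Matrix (Fin k) (Fin k) A := LinearMap.toMatrix' (σ.comp π)
  let v : Matrix ι (Fin k) B := fun i l => (π (Pi.single l 1)).1.1 i
  let cu : Fin k → (B ⊗[A] M →ₗ[A] B) := fun l =>
    (TensorProduct.rid A B).toLinearMap ∘ₗ (((LinearMap.proj l).comp σ).lTensor B)
  have hcus : ∀ l (s : B) z, cu l (s • z) = s * cu l z := fun l s z => by
    induction z using TensorProduct.induction_on with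
    | zero => simp
    | add a b ha hb => simp only [smul_add, map_add, ha, hb, mul_add]
    | tmul a m => simp [cu, TensorProduct.smul_tmul', mul_comm, mul_left_comm]
  let u : Matrix (Fin k) ι B := fun l j => cu l (μ.symm (gen j))
  have hπcol : ∀ (x : Fin k → A) (i : ι), (π x).1.1 i = ∑ l, x l • v i l := fun x i => by
    conv_lhs => rw [pi_eq_sum_univ' x]
    simp [v, Finset.sum_apply]
  have hvu0 : ∀ (z : B ⊗[A] M) i, ∑ l, v i l * cu l z = (μ z).1 i := fun z i => by
    induction z using TensorProduct.induction_on with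
    | zero => simp
    | add a b ha hb => simp only [map_add, mul_add, Finset.sum_add_distrib, Submodule.coe_add, Pi.add_apply, ha, hb]
    | tmul s m =>
      show _ = (ModDesc12.mult M (s ⊗ₜ m)).1 i
      rw [ModDesc12.mult_tmul, Submodule.coe_smul, Pi.smul_apply, smul_eq_mul]
      conv_rhs => rw [← hσπ m, hπcol, Finset.mul_sum]
      refine Finset.sum_congr rfl fun l _ => ?_
      simp only [cu, LinearMap.comp_apply, LinearEquiv.coe_coe, LinearMap.lTensor_tmul, TensorProduct.rid_tmul,
        LinearMap.proj_apply]
      rw [Algebra.smul_def, Algebra.smul_def]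
      ring
  have he : ∀ i l, e i l = σ (π (Pi.single l 1)) i := fun i l => by
    simp [e, LinearMap.toMatrix'_apply]
  refine ⟨k, e, u, v, ?_, ?_, ?_, ?_, ?_⟩
  · rw [← LinearMap.toMatrix'_comp]
    congr 1
    ext1
    exact LinearMap.ext fun _ => by simp [hσπ]
  · ext l l'
    show ∑ j, cu l (μ.symm (gen j)) * v j l' = algebraMap A B (e l l')
    have hz : μ (∑ j, v j l' • μ.symm (gen j)) = μ ((1 : B) ⊗ₜ[A] π (Pi.single l' 1)) := by
      simp only [map_sum, map_smul, LinearEquiv.apply_symm_apply]
      refine (hsum (π (Pi.single l' 1)).1).trans ?_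
      show _ = ModDesc12.mult M ((1 : B) ⊗ₜ _)
      rw [ModDesc12.mult_tmul, one_smul]
    have := congrArg (cu l) (μ.injective hz)
    simp only [map_sum, hcus] at this
    refine (Finset.sum_congr rfl fun j _ => mul_comm _ _).trans (this.trans ?_)
    simp [cu, he, Algebra.algebraMap_eq_smul_one]
  · ext i j
    show ∑ l, v i l * cu l (μ.symm (gen j)) = f i j
    rw [hvu0, LinearEquiv.apply_symm_apply]
    simp [gen]
  · ext i l
    show ∑ l', v i l' * algebraMap A B (e l' l) = v i l
    conv_rhs => rw [show v i l = (π (σ (π (Pi.single l 1)))).1.1 i from by rw [hσπ], hπcol]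
    refine Finset.sum_congr rfl fun l' _ => ?_
    rw [he, Algebra.smul_def, mul_comm]
  · rw [← hG0, show f = v * u from ?_, map_mul', ← Matrix.mul_assoc, show G * v.map q0 = v.map q1 from ?_]
    · ext i l
      exact hM (π (Pi.single l 1)) i
    · ext i j
      show f i j = ∑ l, v i l * cu l (μ.symm (gen j))
      rw [hvu0, LinearEquiv.apply_symm_apply]
      simp [gen]

/-- A unipotent cocycle, twisted by a scalar, is a coboundary. -/
theorem exists_twisted_coboundary {ι : Type} [Fintype ι] [DecidableEq ι] (c : A) (e : Matrix ι ι A) (he : e * e = e)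
    (x : Matrix ι ι (B ⊗[A] B)) (hex : e.map (algebraMap A _) * x = x) (hxe : x * e.map (algebraMap A _) = x)
    (hx : x.map pair12 + x.map pair01 + c • (x.map pair12 * x.map pair01) = x.map pair02) :
    ∃ y : Matrix ι ι B, e.map (algebraMap A B) * y = y ∧ y * e.map (algebraMap A B) = y ∧
      x + y.map q0 + c • (x * y.map q0) = y.map q1 := by
  classical
  let E2 : Matrix ι ι (B ⊗[A] B) := e.map (algebraMap A _)
  let E3 : Matrix ι ι (B ⊗[A] (B ⊗[A] B)) := e.map (algebraMap A _)
  have hE2 : E2 * E2 = E2 := by rw [← map_mul', he]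
  have hE3 : E3 * E3 = E3 := by rw [← map_mul', he]
  let H : Matrix (ι ⊕ ι) (ι ⊕ ι) (B ⊗[A] B) := Matrix.fromBlocks (E2 + c • x) x 0 E2
  have hH : H.map pair12 * H.map pair01 = H.map pair02 := by
    simp only [H, Matrix.fromBlocks_map, map_add', map_smul_alg, E2, map_algebraMap', Matrix.map_zero _ (map_zero _),
      Matrix.fromBlocks_multiply]
    have a1 : E3 * x.map pair01 = x.map pair01 := by
      rw [show E3 = (e.map (algebraMap A _)).map (pair01 (A := A) (B := B)) from (map_algebraMap' _ e).symm,
        ← map_mul', hex]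
    have a2 : x.map pair12 * E3 = x.map pair12 := by
      rw [show E3 = (e.map (algebraMap A _)).map (pair12 (A := A) (B := B)) from (map_algebraMap' _ e).symm,
        ← map_mul', hxe]
    congr 1
    · rw [Matrix.mul_zero, add_zero, add_mul, mul_add, mul_add, hE3, Matrix.mul_smul, a1, Matrix.smul_mul,
        Matrix.smul_mul, a2, Matrix.mul_smul, ← hx, smul_add, smul_add]
      abel
    · rw [add_mul, a1, Matrix.smul_mul, a2, ← hx]
      abel
    · simp
    · rw [Matrix.zero_mul, zero_add, hE3]
  obtain ⟨k, e', u, v, -, huv, hvu, hve, hH'⟩ := matDescent (H.map diagHom) H rfl hH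
  have hHv : H * v.map q0 = v.map q1 := by
    rw [hH', Matrix.mul_assoc, ← map_mul', huv, map_algebraMap',
      ← map_algebraMap' (q1 (A := A) (B := B)) e', ← map_mul', hve]
  let vt : Matrix ι (Fin k) B := fun i l => v (Sum.inl i) l
  let vb : Matrix ι (Fin k) B := fun i l => v (Sum.inr i) l
  have hv : v = Matrix.fromRows vt vb := by ext (i | i) l <;> rfl
  rw [hv, Matrix.fromRows_map, Matrix.fromRows_map, Matrix.fromBlocks_mul_fromRows, Matrix.fromRows_inj.eq_iff] at hHv
  obtain ⟨ht, hb⟩ := hHv
  rw [Matrix.zero_mul, zero_add] at hb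
  have hevb : e.map (algebraMap A B) * vb = vb := by
    have := congrArg (fun M => M.map (diagHom (A := A) (B := B))) hb
    simp only [E2] at this
    rw [map_mul', map_algebraMap', Matrix.map_map, Matrix.map_map] at this
    rwa [show diagHom (A := A) (B := B) ∘ q0 = id from funext fun b => by simp,
      show diagHom (A := A) (B := B) ∘ q1 = id from funext fun b => by simp, Matrix.map_id] at this
  rw [show E2 = (e.map (algebraMap A B)).map (q0 (A := A) (B := B)) from (map_algebraMap' _ e).symm, ← map_mul', hevb] at hb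
  choose Vb hVb using fun i l => exists_of_q0_eq_q1 (A := A) (congrFun (congrFun hb i) l)
  have hbot : vb * (Matrix.of fun l j => u l (Sum.inr j) : Matrix (Fin k) ι B) = e.map (algebraMap A B) := by
    ext i j
    have := congrFun (congrFun hvu (Sum.inr i)) (Sum.inr j)
    refine this.trans ?_
    simp [H, E2]
  choose s hs using fun j => exists_mulVec_eq (A := A) (B := B) (Matrix.of Vb) (fun i => e i j)
    (fun l => u l (Sum.inr j)) (funext fun i => by
      refine Eq.trans ?_ (congrFun (congrFun hbot i) j)
      simp [Matrix.mulVec, dotProduct, Matrix.mul_apply, hVb])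
  let S : Matrix (Fin k) ι A := fun l j => s j l
  have hS : Matrix.of Vb * S = e := by
    ext i j
    exact congrFun (hs j) i
  have hvb : vb = (Matrix.of Vb).map (algebraMap A B) := by
    ext i l
    exact (hVb i l).symm
  let eB : Matrix ι ι B := e.map (algebraMap A B)
  have heB : eB * eB = eB := by rw [← map_mul', he]
  refine ⟨eB * (vt * S.map (algebraMap A B)) * eB, ?_, ?_, ?_⟩
  · rw [← Matrix.mul_assoc, ← Matrix.mul_assoc, heB]
  · rw [Matrix.mul_assoc, heB]
  · have h := congrArg (fun M => E2 * (M * S.map (algebraMap A (B ⊗[A] B))) * E2) ht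
    have e0 : vb.map q0 * S.map (algebraMap A (B ⊗[A] B)) = E2 := by
      rw [hvb, map_algebraMap', ← map_mul', hS]
    simp only [Matrix.add_mul, Matrix.mul_add, Matrix.smul_mul, Matrix.mul_smul, Matrix.mul_assoc] at h
    rw [← Matrix.mul_assoc (vb.map q0), e0, hE2] at h
    rw [← Matrix.mul_assoc E2 x, hex, hxe] at h
    simp only [map_mul', eB, map_algebraMap']
    rw [← Matrix.mul_assoc x, ← Matrix.mul_assoc x, hxe, Matrix.mul_assoc E2]
    simp only [Matrix.mul_assoc] at h ⊢
    rw [← h]
    conv_rhs => simp only [← Matrix.mul_assoc, hE2]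
    simp only [Matrix.mul_assoc, E2, hex]
    abel

end Groth.Agent.WittDesc2
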