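import Groth.Agent.Lib.WittDesc2.Cat

/-!
# Canonical descent data, full faithfulness and effectivity
-/

set_option autoImplicit false

universe u

set_option backward.isDefEq.respectTransparency false
set_option backward.isDefEq.respectTransparency.types false

open CategoryTheory ModuleCat TensorProduct
open scoped ChangeOfRings
open CategoryTheory.Pseudofunctor
open Groth.Agent.ModDesc12 (one one_add one_zero one_smul' map_one' induction_one cov Agree)
open Groth.Agent.TorsTriv25 (q0 q1 pair01 pair12 pair02 diagHom)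

noncomputable section

namespace Groth.Agent.WittDesc2

section Gen

variable {A B : Type u} [CommRing A] [CommRing B] (φ : A →+* B) {M : ModuleCat.{u} A} {ι : Type}

/-- Coordinates on an extended module. -/
def crd (σ : M →ₗ[A] (ι → A)) : (extendScalars φ).obj M ⟶ ModuleCat.of B (ι → B) :=
  ((extendRestrictScalarsAdj φ).homEquiv _ _).symm (ModuleCat.ofHom
    (Y := (restrictScalars φ).obj (ModuleCat.of B (ι → B)))
    { toFun := fun (x : M) => (fun i => φ (σ x i) : ι → B)
      map_add' := fun x y => funext fun i => by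
        show φ (σ (x + y) i) = φ (σ x i) + φ (σ y i)
        rw [map_add, Pi.add_apply, map_add]
      map_smul' := fun (s : A) (x : M) => funext fun i => by
        show φ (σ (s • x) i) = φ s * φ (σ x i)
        rw [map_smul, Pi.smul_apply, smul_eq_mul, map_mul] })

theorem crd_one (σ : M →ₗ[A] (ι → A)) (x : M) : (crd φ σ (one φ M x) : ι → B) = fun i => φ (σ x i) := by
  have h := extendRestrictScalarsAdj_homEquiv_apply (f := φ) (crd φ σ) x
  rw [crd, Equiv.apply_symm_apply] at h
  exact h.symm

variable [Fintype ι] [DecidableEq ι]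

theorem eq_sum_crd (π : (ι → A) →ₗ[A] M) (σ : M →ₗ[A] (ι → A)) (hπσ : ∀ x, π (σ x) = x)
    (z : ↑((extendScalars φ).obj M)) :
    ∑ i, (crd φ σ z : ι → B) i • one φ M (π (Pi.single i 1)) = z := by
  induction z using induction_one with
  | h0 =>
    simp only [map_zero]
    exact Finset.sum_eq_zero fun i _ => zero_smul _ _
  | hadd x y hx hy =>
    simp only [map_add]
    show ∑ i, ((crd φ σ x : ι → B) i + (crd φ σ y : ι → B) i) • one φ M (π (Pi.single i 1)) = _
    simp only [add_smul, Finset.sum_add_distrib, hx, hy]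
  | h s x =>
    have hc : (crd φ σ (s • one φ M x) : ι → B) = fun i => s * φ (σ x i) := by
      rw [map_smul]
      exact funext fun i => congrArg (s * ·) (congrFun (crd_one φ σ x) i)
    refine (Finset.sum_congr rfl fun i _ => congrArg (· • one φ M (π (Pi.single i 1))) (congrFun hc i)).trans ?_
    simp only [mul_smul, ← one_smul', ← Finset.smul_sum]
    congr 1
    let o : M →+ ↑((extendScalars φ).obj M) := AddMonoidHom.mk' (one φ M) (one_add _ _)
    show ∑ i, o (σ x i • π (Pi.single i 1)) = o x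
    rw [← map_sum]
    congr 1
    simp only [← map_smul, ← map_sum]
    rw [← pi_eq_sum_univ' (σ x), hπσ]

theorem crd_fixed (π : (ι → A) →ₗ[A] M) (σ : M →ₗ[A] (ι → A)) (hπσ : ∀ x, π (σ x) = x)
    (z : ↑((extendScalars φ).obj M)) (i : ι) :
    ∑ j, φ (σ (π (Pi.single j 1)) i) * (crd φ σ z : ι → B) j = (crd φ σ z : ι → B) i := by
  conv_rhs => rw [← eq_sum_crd φ π σ hπσ z]
  refine Eq.trans ?_ ((congrFun (map_sum (crd φ σ).hom _ _) i).trans (Finset.sum_apply i _ _)).symm
  refine Finset.sum_congr rfl fun j _ => ?_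
  rw [map_smul]
  exact (mul_comm _ _).trans (congrArg _ (congrFun (crd_one φ σ (π (Pi.single j 1))) i).symm)

theorem one_injective (π : (ι → A) →ₗ[A] M) (σ : M →ₗ[A] (ι → A)) (hπσ : ∀ x, π (σ x) = x)
    (hφ : Function.Injective φ) : Function.Injective (one φ M) := fun x y h => by
  rw [← hπσ x, ← hπσ y]
  congr 1
  funext i
  have := congrFun ((crd_one φ σ x).symm.trans ((congrArg (fun z => (crd φ σ z : ι → B)) h).trans (crd_one φ σ y))) i
  exact hφ this

end Gen

variable {W : CommRingCat.{u} ⥤ CommRingCat.{u}} {R S : Type u} [CommRing R] [CommRing S] [Algebra R S]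

/-- The structure map. -/
abbrev cs (R S : Type u) [CommRing R] [CommRing S] [Algebra R S] : CommRingCat.of R ⟶ CommRingCat.of S :=
  CommRingCat.ofHom (algebraMap R S)

/-- The canonical descent datum of a module. -/
abbrev canD (M : ModuleCat.{u} (WT W (CommRingCat.of R))) : (funModPF W).DescentData (cov R S) :=
  ((funModPF W).toDescentData (cov R S)).obj M

theorem hmE_ofObj (E : Pseudofunctor (LocallyDiscrete CommRingCat.{u}) Cat.{u, u + 1})
    (M : E.obj (LocallyDiscrete.mk (W.obj (CommRingCat.of R)))) {A : CommRingCat.{u}} (a b : CommRingCat.of S ⟶ A)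
    (h : Agree (R := R) a b) (hb : (cs R S).op.op.toLoc ≫ b.op.op.toLoc = (cs R S ≫ a).op.op.toLoc) :
    hmE E (DescentData.ofObj (F := compPF W E) (f := cov R S) M) a b h =
      mcInvE E (cs R S) a (cs R S ≫ a) rfl M ≫ mcE E (cs R S) b (cs R S ≫ a) hb M := rfl

/-- The gluing map of a canonical descent datum. -/
theorem hm_can (M : ModuleCat.{u} (WT W (CommRingCat.of R))) {A : CommRingCat.{u}} (a b : CommRingCat.of S ⟶ A)
    (h : Agree (R := R) a b) (m : M) :
    hm (canD (S := S) M) a b h (one (wf W a) _ (one (wf W (cs R S)) M m)) =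
      one (wf W b) _ (one (wf W (cs R S)) M m) := by
  have hb : (cs R S).op.op.toLoc ≫ b.op.op.toLoc = (cs R S ≫ a).op.op.toLoc := by
    rw [show cs R S ≫ a = cs R S ≫ b from h]; rfl
  have e : hm (canD (S := S) M) a b h =
      mcInv (cs R S) a (cs R S ≫ a) rfl M ≫ mc (cs R S) b (cs R S ≫ a) hb M := by
    rw [hm_def, mcInv_def, mc_def]
    exact hmE_ofObj CommRingCat.moduleCatExtendScalarsPseudofunctor.{u} M a b h hb
  rw [e]
  exact (congrArg (mc (cs R S) b (cs R S ≫ a) hb M) (mcInv_one (cs R S) a (cs R S ≫ a) rfl M m)).trans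
    (mc_one (cs R S) b (cs R S ≫ a) hb M m)

theorem hmE_natural (E : Pseudofunctor (LocallyDiscrete CommRingCat.{u}) Cat.{u, u + 1})
    {D₁ D₂ : (compPF W E).DescentData (cov R S)} (ψ : D₁ ⟶ D₂) {A : CommRingCat.{u}} (a b : CommRingCat.of S ⟶ A)
    (h : Agree (R := R) a b) :
    (E.map (W.map a).toLoc).toFunctor.map (ψ.hom PUnit.unit) ≫ hmE E D₂ a b h =
      hmE E D₁ a b h ≫ (E.map (W.map b).toLoc).toFunctor.map (ψ.hom PUnit.unit) :=
  ψ.comm (CommRingCat.ofHom (algebraMap R S) ≫ a).op (i₁ := PUnit.unit) (i₂ := PUnit.unit) a.op b.op rfl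
    (congrArg Quiver.Hom.op h).symm

theorem hm_natural {D₁ D₂ : (funModPF W).DescentData (cov R S)} (ψ : D₁ ⟶ D₂) {A : CommRingCat.{u}}
    (a b : CommRingCat.of S ⟶ A) (h : Agree (R := R) a b) (g : Nd D₁ ⟶ Nd D₂) (hg : g = ψ.hom PUnit.unit) :
    (extendScalars (wf W a)).map g ≫ hm D₂ a b h = hm D₁ a b h ≫ (extendScalars (wf W b)).map g := by
  subst hg
  rw [hm_def, hm_def]
  exact hmE_natural CommRingCat.moduleCatExtendScalarsPseudofunctor.{u} ψ a b h

theorem nonempty_isoE (E : Pseudofunctor (LocallyDiscrete CommRingCat.{u}) Cat.{u, u + 1})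
    (D₁ D₂ : (compPF W E).DescentData (cov R S)) (e : D₁.obj PUnit.unit ≅ D₂.obj PUnit.unit)
    (H : ∀ (A : CommRingCat.{u}) (a b : CommRingCat.of S ⟶ A) (h : Agree (R := R) a b),
      (E.map (W.map a).toLoc).toFunctor.map e.hom ≫ hmE E D₂ a b h =
        hmE E D₁ a b h ≫ (E.map (W.map b).toLoc).toFunctor.map e.hom) :
    Nonempty (D₁ ≅ D₂) := by
  refine ⟨DescentData.isoMk (fun _ => e) ?_⟩
  intro Y q i₁ i₂ f₁ f₂ hf₁ hf₂
  obtain ⟨A⟩ := Y
  obtain ⟨a, rfl⟩ : ∃ a : CommRingCat.of S ⟶ A, a.op = f₁ := ⟨f₁.unop, rfl⟩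
  obtain ⟨b, rfl⟩ : ∃ b : CommRingCat.of S ⟶ A, b.op = f₂ := ⟨f₂.unop, rfl⟩
  subst hf₁
  exact H A a b (congrArg Quiver.Hom.unop hf₂).symm

/-- An isomorphism of descent data from one of modules. -/
theorem nonempty_iso (D₁ D₂ : (funModPF W).DescentData (cov R S)) (e : Nd D₁ ≅ Nd D₂)
    (H : ∀ (A : CommRingCat.{u}) (a b : CommRingCat.of S ⟶ A) (h : Agree (R := R) a b),
      (extendScalars (wf W a)).map e.hom ≫ hm D₂ a b h = hm D₁ a b h ≫ (extendScalars (wf W b)).map e.hom) :
    Nonempty (D₁ ≅ D₂) := by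
  refine nonempty_isoE CommRingCat.moduleCatExtendScalarsPseudofunctor.{u} D₁ D₂ e fun A a b h => ?_
  have := H A a b h
  rw [hm_def, hm_def] at this
  exact this

theorem map_injective (M N : ModuleCat.{u} (WT W (CommRingCat.of R)))
    (hN : Function.Injective (one (wf W (cs R S)) N)) :
    Function.Injective (fun φ : M ⟶ N => ((funModPF W).toDescentData (cov R S)).map φ) := fun φ φ' h => by
  ext m
  refine hN ?_
  have h' : (extendScalars (wf W (cs R S))).map φ = (extendScalars (wf W (cs R S))).map φ' :=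
    congrArg (fun ψ => ψ.hom PUnit.unit) h
  rw [← map_one', ← map_one', h']

/-- The functor to descent data is fully faithful on finite projective modules. -/
theorem map_bijective (hinj : Function.Injective (wf W (cs R S)))
    (heq : ∀ x : WT W (CommRingCat.of S), wf W (cq0 R S) x = wf W (cq1 R S) x → ∃ y, wf W (cs R S) y = x)
    (M N : ModuleCat.{u} (WT W (CommRingCat.of R))) [Module.Finite (WT W (CommRingCat.of R)) N]
    [Module.Projective (WT W (CommRingCat.of R)) N] :
    Function.Bijective (fun φ : M ⟶ N => ((funModPF W).toDescentData (cov R S)).map φ) := by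
  classical
  obtain ⟨r, π, hπ⟩ := Module.Finite.exists_fin' (WT W (CommRingCat.of R)) N
  obtain ⟨σ, hσ⟩ := Module.projective_lifting_property π LinearMap.id hπ
  have hπσ : ∀ x, π (σ x) = x := fun x => LinearMap.congr_fun hσ x
  have hN := one_injective (wf W (cs R S)) π σ hπσ hinj
  refine ⟨map_injective M N hN, fun ψ => ?_⟩
  let ψ0 : (extendScalars (wf W (cs R S))).obj M ⟶ (extendScalars (wf W (cs R S))).obj N := ψ.hom PUnit.unit
  have hfix : ∀ m : M, ∃ x : N, one (wf W (cs R S)) N x = ψ0 (one (wf W (cs R S)) M m) := by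
    intro m
    let c : Fin r → WT W (CommRingCat.of S) := crd (wf W (cs R S)) σ (ψ0 (one (wf W (cs R S)) M m))
    let gn : Fin r → ↑((extendScalars (wf W (cs R S))).obj N) := fun i => one (wf W (cs R S)) N (π (Pi.single i 1))
    have hz : ∑ i, c i • gn i = ψ0 (one (wf W (cs R S)) M m) := eq_sum_crd _ π σ hπσ _
    have hcomm : hm (canD (S := S) N) (cq0 R S) (cq1 R S) agree_q
        (one (wf W (cq0 R S)) _ (ψ0 (one (wf W (cs R S)) M m))) =
        one (wf W (cq1 R S)) _ (ψ0 (one (wf W (cs R S)) M m)) := by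
      have hn : (extendScalars (wf W (cq0 R S))).map ψ0 ≫ hm (canD (S := S) N) (cq0 R S) (cq1 R S) agree_q =
          hm (canD (S := S) M) (cq0 R S) (cq1 R S) agree_q ≫ (extendScalars (wf W (cq1 R S))).map ψ0 :=
        hm_natural ψ (cq0 R S) (cq1 R S) agree_q ψ0 rfl
      have := congrArg (fun φ => φ (one (wf W (cq0 R S)) _ (one (wf W (cs R S)) M m))) hn
      simp only [CategoryTheory.comp_apply] at this
      refine Eq.trans ?_ (this.trans ((congrArg ((extendScalars (wf W (cq1 R S))).map ψ0)
        (hm_can M (cq0 R S) (cq1 R S) agree_q m)).trans (map_one' _ ψ0 _)))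
      exact congrArg (hm (canD (S := S) N) (cq0 R S) (cq1 R S) agree_q) (map_one' _ ψ0 _).symm
    let o : CommRingCat.of S ⟶ CommRingCat.of (S ⊗[R] S) := cq1 R S
    have h1 : ∑ i, wf W (cq0 R S) (c i) • one (wf W o) _ (gn i) =
        ∑ i, wf W o (c i) • one (wf W o) _ (gn i) := by
      let o0 : ↑((extendScalars (wf W (cs R S))).obj N) →+ _ :=
        AddMonoidHom.mk' (one (wf W (cq0 R S)) _) (one_add _ _)
      let o1 : ↑((extendScalars (wf W (cs R S))).obj N) →+ _ :=
        AddMonoidHom.mk' (one (wf W o) _) (one_add _ _)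
      have hl : hm (canD (S := S) N) (cq0 R S) (cq1 R S) agree_q (o0 (∑ i, c i • gn i)) =
          ∑ i, wf W (cq0 R S) (c i) • one (wf W o) _ (gn i) := by
        rw [map_sum, map_sum]
        refine Finset.sum_congr rfl fun i _ => ?_
        refine (congrArg (hm (canD (S := S) N) (cq0 R S) (cq1 R S) agree_q) (one_smul' _ _ (c i) (gn i))).trans ?_
        refine (map_smul (hm (canD (S := S) N) (cq0 R S) (cq1 R S) agree_q).hom _ _).trans ?_
        exact congrArg (wf W (cq0 R S) (c i) • ·) (hm_can N (cq0 R S) (cq1 R S) agree_q (π (Pi.single i 1)))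
      have hr : o1 (∑ i, c i • gn i) = ∑ i, wf W o (c i) • one (wf W o) _ (gn i) := by
        rw [map_sum]
        exact Finset.sum_congr rfl fun i _ => one_smul' _ _ (c i) (gn i)
      rw [← hl, ← hr, hz]
      exact hcomm
    have key : ∀ d : Fin r → WT W (CommRingCat.of (S ⊗[R] S)), ∀ i,
        (crd (wf W o) (crd (wf W (cs R S)) σ).hom (∑ j, d j • one (wf W o) _ (gn j)) : Fin r → _) i =
          ∑ j, wf W o (wf W (cs R S) (σ (π (Pi.single j 1)) i)) * d j := by
      intro d i
      rw [map_sum]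
      refine (Finset.sum_apply i _ _).trans (Finset.sum_congr rfl fun j _ => ?_)
      rw [map_smul]
      refine (congrArg (d j * ·) ((congrFun (crd_one (wf W o) _ (gn j)) i).trans
        (congrArg (wf W o) (congrFun (crd_one (wf W (cs R S)) σ (π (Pi.single j 1))) i)))).trans (mul_comm _ _)
    have hq : ∀ i, wf W (cq0 R S) (c i) = wf W (cq1 R S) (c i) := fun i => by
      have h2 := congrArg (fun z => (crd (wf W o) (crd (wf W (cs R S)) σ).hom z : Fin r → _) i) h1
      simp only [key] at h2
      have hc : ∑ j, wf W (cs R S) (σ (π (Pi.single j 1)) i) * c j = c i := crd_fixed _ π σ hπσ _ i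
      have hagree : ∀ y, wf W (cq0 R S) (wf W (cs R S) y) = wf W (cq1 R S) (wf W (cs R S) y) := fun y => by
        rw [← wf_comp_apply, ← wf_comp_apply, show cs R S ≫ cq0 R S = cs R S ≫ cq1 R S from agree_q]
      conv_lhs => rw [← hc]
      conv_rhs => rw [← hc]
      simp only [map_sum, map_mul]
      refine Eq.trans ?_ h2
      exact Finset.sum_congr rfl fun j _ => by rw [hagree]
    choose c0 hc0 using fun i => heq (c i) (hq i)
    refine ⟨π c0, hz ▸ ?_⟩
    let on : N →+ ↑((extendScalars (wf W (cs R S))).obj N) := AddMonoidHom.mk' (one (wf W (cs R S)) N) (one_add _ _)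
    show on (π c0) = _
    rw [pi_eq_sum_univ' c0, map_sum, map_sum]
    refine Finset.sum_congr rfl fun i _ => ?_
    rw [map_smul, ← hc0 i]
    exact one_smul' _ _ _ _
  choose φf hφf using hfix
  let φ : M ⟶ N := ModuleCat.ofHom
    { toFun := φf
      map_add' := fun x y => hN (by rw [hφf, one_add, one_add, map_add, hφf, hφf])
      map_smul' := fun s x => hN (by rw [hφf, RingHom.id_apply, one_smul', one_smul', map_smul, hφf]) }
  refine ⟨φ, DescentData.hom_ext fun i => ?_⟩
  show (extendScalars (wf W (cs R S))).map φ = ψ0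
  refine ExtendScalars.hom_ext fun m => ?_
  exact (map_one' (wf W (cs R S)) φ m).trans (hφf m)

/-- Effectivity from a matrix trivialisation. -/
theorem effective_of_matrices (D : (funModPF W).DescentData (cov R S)) {r k : ℕ}
    (π : (Fin r → WT W (CommRingCat.of S)) →ₗ[WT W (CommRingCat.of S)] Nd D)
    (σ : Nd D →ₗ[WT W (CommRingCat.of S)] (Fin r → WT W (CommRingCat.of S))) (hπσ : ∀ x, π (σ x) = x)
    (e : Matrix (Fin k) (Fin k) (WT W (CommRingCat.of R))) (u : Matrix (Fin k) (Fin r) (WT W (CommRingCat.of S)))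
    (v : Matrix (Fin r) (Fin k) (WT W (CommRingCat.of S)))
    (he : e * e = e) (huv : u * v = e.map (wf W (cs R S))) (hvu : v * u = fM D π σ)
    (hG : GU D π σ = v.map (wf W (cq1 R S)) * u.map (wf W (cq0 R S))) :
    ∃ M : ModuleCat.{u} (WT W (CommRingCat.of R)), Module.Finite (WT W (CommRingCat.of R)) M ∧
      Module.Projective (WT W (CommRingCat.of R)) M ∧ Nonempty (canD (S := S) M ≅ D) := by
  classical
  let P : ModuleCat.{u} (WT W (CommRingCat.of R)) := ModuleCat.of _ (LinearMap.range e.mulVecLin)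
  let πP : (Fin k → WT W (CommRingCat.of R)) →ₗ[WT W (CommRingCat.of R)] P := e.mulVecLin.rangeRestrict
  let σP : P →ₗ[WT W (CommRingCat.of R)] (Fin k → WT W (CommRingCat.of R)) := (LinearMap.range e.mulVecLin).subtype
  have heP : ∀ x : P, e.mulVec (σP x) = σP x := by
    rintro ⟨_, x, rfl⟩
    show e.mulVec (e.mulVec x) = e.mulVec x
    rw [Matrix.mulVec_mulVec, he]
  have hπσP : ∀ x, πP (σP x) = x := fun x => Subtype.ext (heP x)
  refine ⟨P, Module.Finite.of_surjective πP e.mulVecLin.surjective_rangeRestrict,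
    Module.Projective.of_split σP πP (LinearMap.ext hπσP), ?_⟩
  let eS := e.map (wf W (cs R S))
  have hent : ∀ i j, σP (πP (Pi.single j 1)) i = e i j := fun i j => by
    show (e.mulVec (Pi.single j 1)) i = e i j
    simp
  let cP : ↑((extendScalars (wf W (cs R S))).obj P) → (Fin k → WT W (CommRingCat.of S)) :=
    fun z => crd (wf W (cs R S)) σP z
  have hecP : ∀ z, eS.mulVec (cP z) = cP z := fun z => funext fun i => by
    refine Eq.trans ?_ (crd_fixed (wf W (cs R S)) πP σP hπσP z i)
    show ∑ j, wf W (cs R S) (e i j) * cP z j = _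
    refine Finset.sum_congr rfl fun j _ => ?_
    congr 1
    exact congrArg _ (hent i j).symm
  let Φ : (extendScalars (wf W (cs R S))).obj P ⟶ Nd D :=
    crd (wf W (cs R S)) σP ≫ ModuleCat.ofHom (π.comp v.mulVecLin)
  have hΦ : ∀ z, Φ z = π (v.mulVec (cP z)) := fun z => rfl
  have hσπ : ∀ w, σ (π w) = (fM D π σ).mulVec w := fun w => by
    conv_lhs => rw [pi_eq_sum_univ' w, map_sum, map_sum]
    funext i
    simp only [map_smul, Finset.sum_apply, Pi.smul_apply, smul_eq_mul, Matrix.mulVec, dotProduct, fM]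
    exact Finset.sum_congr rfl fun j _ => mul_comm _ _
  have hΦbij : Function.Bijective Φ := by
    refine ⟨fun x y hxy => ?_, fun n => ?_⟩
    · have hh : ∀ z, u.mulVec (σ (Φ z)) = cP z := fun z => by
        rw [hΦ, hσπ, ← hvu, Matrix.mulVec_mulVec, Matrix.mulVec_mulVec, ← Matrix.mul_assoc u, huv]
        rw [Matrix.mul_assoc, huv, ← Matrix.mulVec_mulVec, hecP, hecP]
      have hc : cP x = cP y := by rw [← hh, ← hh, hxy]
      rw [← eq_sum_crd (wf W (cs R S)) πP σP hπσP x, ← eq_sum_crd (wf W (cs R S)) πP σP hπσP y]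
      exact Finset.sum_congr rfl fun i _ => congrArg (· • _) (congrFun hc i)
    · refine ⟨∑ i, (u.mulVec (σ n)) i • one (wf W (cs R S)) P (πP (Pi.single i 1)), ?_⟩
      have hc : cP (∑ i, (u.mulVec (σ n)) i • one (wf W (cs R S)) P (πP (Pi.single i 1))) =
          eS.mulVec (u.mulVec (σ n)) := funext fun l => by
        show (crd (wf W (cs R S)) σP _ : Fin k → _) l = _
        rw [map_sum]
        refine (Finset.sum_apply l _ _).trans (Finset.sum_congr rfl fun i _ => ?_)
        rw [map_smul]
        refine (congrArg ((u.mulVec (σ n)) i * ·) (congrFun (crd_one (wf W (cs R S)) σP _) l)).trans ?_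
        rw [mul_comm]
        congr 1
        exact congrArg (wf W (cs R S)) (hent l i)
      rw [hΦ, hc, Matrix.mulVec_mulVec, Matrix.mulVec_mulVec, show eS = u * v from huv.symm, ← Matrix.mul_assoc v,
        hvu, Matrix.mul_assoc, hvu, ← Matrix.mulVec_mulVec, fM_mulVec D π σ hπσ, fM_mulVec D π σ hπσ, hπσ]
  haveI : IsIso Φ := (ConcreteCategory.isIso_iff_bijective Φ).2 hΦbij
  refine nonempty_iso (canD (S := S) P) D (asIso Φ) fun A a b h => ?_
  rw [asIso_hom]
  refine ExtendScalars.hom_ext fun z => ?_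
  change ((extendScalars (wf W a)).map Φ ≫ hm D a b h) (one (wf W a) _ z) =
    (hm (canD (S := S) P) a b h ≫ (extendScalars (wf W b)).map Φ) (one (wf W a) _ z)
  simp only [CategoryTheory.comp_apply]
  induction z using induction_one with
  | h0 => simp only [one_zero, map_zero]
  | hadd y y' hy hy' => simp only [one_add, map_add, hy, hy']
  | h s x =>
    have hg : hm D a b h (one (wf W a) (Nd D) (Φ (one (wf W (cs R S)) P x))) =
        one (wf W b) (Nd D) (Φ (one (wf W (cs R S)) P x)) := by
      let y := v.mulVec (cP (one (wf W (cs R S)) P x))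
      have hy : σ (Φ (one (wf W (cs R S)) P x)) = y := by
        rw [hΦ, hσπ, ← hvu, ← Matrix.mulVec_mulVec, Matrix.mulVec_mulVec (M := u), huv, hecP]
      have hfy : (GU D π σ).mulVec (fun i => wf W (cq0 R S) (y i)) = fun i => wf W (cq1 R S) (y i) := by
        have hcx : cP (one (wf W (cs R S)) P x) = fun i => wf W (cs R S) (σP x i) :=
          crd_one (wf W (cs R S)) σP x
        have hy' : ∀ t : CommRingCat.of S ⟶ CommRingCat.of (S ⊗[R] S), (fun i => wf W t (y i)) =
            (v.map (wf W t)).mulVec fun i => wf W t (cP (one (wf W (cs R S)) P x) i) := fun t =>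
          map_mulVec' (wf W t) v _
        have hce : ∀ i, wf W (cq0 R S) (cP (one (wf W (cs R S)) P x) i) =
            wf W (cq1 R S) (cP (one (wf W (cs R S)) P x) i) := fun i => by
          rw [hcx, ← wf_comp_apply, ← wf_comp_apply, show cs R S ≫ cq0 R S = cs R S ≫ cq1 R S from agree_q]
        rw [hy', hy', hG, Matrix.mulVec_mulVec, Matrix.mul_assoc, ← map_mul', huv, ← Matrix.mulVec_mulVec]
        congr 1
        refine (map_mulVec' (wf W (cq0 R S)) eS _).symm.trans ?_
        funext i
        rw [hecP, hce]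
      obtain ⟨g, rfl, rfl⟩ := exists_classify a b h
      rw [← eq_sum_gen D π σ hπσ _ (hm D _ _ h _), ← eq_sum_gen D π σ hπσ _ (one (wf W (cq1 R S ≫ g)) _ _)]
      refine Finset.sum_congr rfl fun i _ => congrArg (· • _) ?_
      rw [coord_hm D π σ hπσ, coord_one, coord_one, hy, GM_map D π σ (cq0 R S) (cq1 R S) agree_q g]
      have := congrArg (fun w => fun i => wf W g (w i)) hfy
      simp only [map_mulVec'] at this
      refine Eq.trans ?_ ((congrFun this i).trans (wf_comp_apply _ _ _).symm)
      congr 2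
      funext j
      exact wf_comp_apply _ _ _
    rw [one_smul']
    refine Eq.trans ?_ (congrArg (fun w => (extendScalars (wf W b)).map Φ (hm (canD (S := S) P) a b h w))
      (one_smul' (wf W a) ((extendScalars (wf W (cs R S))).obj P) s (one (wf W (cs R S)) P x))).symm
    simp only [map_smul]
    congr 1
    refine ((congrArg (hm D a b h) (map_one' (wf W a) Φ _)).trans hg).trans ?_
    exact ((congrArg ((extendScalars (wf W b)).map Φ) (hm_can P a b h x)).trans (map_one' (wf W b) Φ _)).symm

end Groth.Agent.WittDesc2
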