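import Groth.Agent.Lib.WittDesc2.Mat
import Groth.Prelude.Def_WittGrp
import Mathlib.RingTheory.WittVector.Identities
import Mathlib.RingTheory.WittVector.Teichmuller
import Mathlib.RingTheory.WittVector.Domain
import Mathlib.RingTheory.Idempotents
import Mathlib.RingTheory.Noetherian.Nilpotent
import Mathlib.LinearAlgebra.Matrix.NonsingularInverse

/-!
# Descent of finite projective modules over truncated Witt vectors
-/

set_option autoImplicit false

universe u

open TensorProduct Matrix
open Groth.Agent.TorsTriv25 (q0 q1 pair01 pair12 pair02 diagHom)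

noncomputable section

namespace Groth.Agent.WittDesc2

variable (p : ℕ) [hp : Fact p.Prime]

section Basic

variable {R S : Type u} [CommRing R] [CommRing S] {n k : ℕ}

/-- Truncated Witt vectors whose first `k` components vanish. -/
def fil (n k : ℕ) (R : Type u) [CommRing R] : Ideal (TruncatedWittVector p n R) where
  carrier := {x | ∀ i : Fin n, (i : ℕ) < k → x.coeff i = 0}
  zero_mem' := fun i _ => TruncatedWittVector.coeff_zero p n R i
  add_mem' := fun {x y} hx hy i hi => by
    have hle : min k n ≤ n := min_le_right _ _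
    have h0 : ∀ z : TruncatedWittVector p n R, (∀ i : Fin n, (i : ℕ) < k → z.coeff i = 0) →
        TruncatedWittVector.truncate hle z = 0 := fun z hz => TruncatedWittVector.ext fun j => by
      rw [TruncatedWittVector.coeff_truncate, TruncatedWittVector.coeff_zero]
      exact hz _ (lt_of_lt_of_le j.2 (min_le_left _ _))
    have := congrArg (fun w => w.coeff ⟨i, lt_min hi i.2⟩)
      (show TruncatedWittVector.truncate hle (x + y) = 0 by rw [map_add, h0 x hx, h0 y hy, add_zero])
    simp only [TruncatedWittVector.coeff_truncate, TruncatedWittVector.coeff_zero] at this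
    exact this
  smul_mem' := fun c x hx i hi => by
    have hle : min k n ≤ n := min_le_right _ _
    have h0 : TruncatedWittVector.truncate hle x = 0 := TruncatedWittVector.ext fun j => by
      rw [TruncatedWittVector.coeff_truncate, TruncatedWittVector.coeff_zero]
      exact hx _ (lt_of_lt_of_le j.2 (min_le_left _ _))
    have := congrArg (fun w => w.coeff ⟨i, lt_min hi i.2⟩)
      (show TruncatedWittVector.truncate hle (c • x) = 0 by rw [smul_eq_mul, map_mul, h0, mul_zero])
    simp only [TruncatedWittVector.coeff_truncate, TruncatedWittVector.coeff_zero] at this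
    exact this

theorem mem_fil {x : TruncatedWittVector p n R} : x ∈ fil p n k R ↔ ∀ i : Fin n, (i : ℕ) < k → x.coeff i = 0 :=
  Iff.rfl

theorem eq_zero_of_mem_fil {x : TruncatedWittVector p n R} (hk : n ≤ k) (hx : x ∈ fil p n k R) : x = 0 :=
  TruncatedWittVector.ext fun i => by
    rw [TruncatedWittVector.coeff_zero]
    exact hx i (lt_of_lt_of_le i.2 hk)

theorem truncate_out (x : TruncatedWittVector p n R) : WittVector.truncate n x.out = x :=
  TruncatedWittVector.truncateFun_out x

theorem out_eq (hk : k ≤ n) {x : TruncatedWittVector p n R} (hx : x ∈ fil p n k R) :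
    x.out = WittVector.verschiebung^[k] (x.out.shift k) :=
  WittVector.eq_iterate_verschiebung fun i hi => by
    rw [show i = ((⟨i, lt_of_lt_of_le hi hk⟩ : Fin n) : ℕ) from rfl, TruncatedWittVector.coeff_out]
    exact hx _ hi

/-- The `k`-th ghost component of a truncated Witt vector. -/
def gh (k : ℕ) (x : TruncatedWittVector p n R) : R := WittVector.ghostComponent k x.out

theorem out_truncMap (f : R →+* S) (x : TruncatedWittVector p n R) :
    (WittGrp.truncMap p n f x).out = WittVector.map f x.out := by
  ext i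
  rw [WittVector.map_coeff]
  by_cases hi : i < n
  · rw [show i = ((⟨i, hi⟩ : Fin n) : ℕ) from rfl, TruncatedWittVector.coeff_out, TruncatedWittVector.coeff_out,
      WittGrp.coeff_truncMap]
  · simp [TruncatedWittVector.out, hi]

theorem gh_truncMap (f : R →+* S) (x : TruncatedWittVector p n R) :
    gh p k (WittGrp.truncMap p n f x) = f (gh p k x) := by
  simp only [gh, out_truncMap, WittVector.ghostComponent_apply, MvPolynomial.aeval_eq_eval₂Hom]
  rw [MvPolynomial.map_eval₂Hom]
  congr 2
  exact RingHom.ext_int _ _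

theorem coeff_iterate (x : WittVector p R) (k : ℕ) : (WittVector.verschiebung^[k] x).coeff k = x.coeff 0 := by
  simpa using WittVector.iterate_verschiebung_coeff x k 0

theorem ghost_iterate (x : WittVector p R) :
    ∀ k, WittVector.ghostComponent k (WittVector.verschiebung^[k] x) = (p : R) ^ k * x.coeff 0
  | 0 => by
    rw [Function.iterate_zero, id_eq, pow_zero, one_mul, WittVector.ghostComponent_apply, wittPolynomial_zero,
      MvPolynomial.aeval_X]
  | k + 1 => by
    rw [Function.iterate_succ_apply', WittVector.ghostComponent_verschiebung, ghost_iterate x k, pow_succ']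
    ring

theorem frobenius_iterate_coeff_zero : ∀ (k : ℕ) (x : WittVector p R),
    (WittVector.frobenius^[k] x).coeff 0 = WittVector.ghostComponent k x
  | 0, x => by
    rw [Function.iterate_zero, id_eq, WittVector.ghostComponent_apply, wittPolynomial_zero, MvPolynomial.aeval_X]
  | k + 1, x => by
    rw [Function.iterate_succ_apply, frobenius_iterate_coeff_zero k, WittVector.ghostComponent_frobenius]

variable (hk : k < n)

/-- The component of index `k`. -/
def lead (x : TruncatedWittVector p n R) : R := x.coeff ⟨k, hk⟩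

theorem coeff_zero_of_lead {x : TruncatedWittVector p n R} (hx : x ∈ fil p n k R) (h : lead p hk x = 0) :
    x ∈ fil p n (k + 1) R := fun i hi => by
  rcases Nat.lt_succ_iff_lt_or_eq.1 hi with hi | hi
  · exact hx i hi
  · rwa [show i = ⟨k, hk⟩ from Fin.ext hi]

theorem lead_truncMap (f : R →+* S) (x : TruncatedWittVector p n R) :
    lead p hk (WittGrp.truncMap p n f x) = f (lead p hk x) := WittGrp.coeff_truncMap p _ f x _

theorem truncMap_mem_fil (f : R →+* S) {x : TruncatedWittVector p n R} (hx : x ∈ fil p n k R) :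
    WittGrp.truncMap p n f x ∈ fil p n k S := fun i hi => by
  rw [WittGrp.coeff_truncMap, hx i hi, map_zero]

theorem lead_eq {x : TruncatedWittVector p n R} :
    lead p hk x = x.out.coeff k := (TruncatedWittVector.coeff_out x ⟨k, hk⟩).symm

theorem gh_of_mem {x : TruncatedWittVector p n R} (hx : x ∈ fil p n k R) :
    gh p k x = (p : R) ^ k * lead p hk x := by
  rw [gh, lead_eq]
  conv_lhs => rw [out_eq p hk.le hx]
  conv_rhs => rw [out_eq p hk.le hx]
  rw [ghost_iterate, coeff_iterate]

theorem lead_add {x y : TruncatedWittVector p n R} (hx : x ∈ fil p n k R) (hy : y ∈ fil p n k R) :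
    lead p hk (x + y) = lead p hk x + lead p hk y := by
  conv_lhs => rw [← truncate_out p x, ← truncate_out p y, ← map_add]
  rw [lead, WittVector.coeff_truncate, lead_eq, lead_eq]
  conv_lhs => rw [out_eq p hk.le hx, out_eq p hk.le hy, ← iterate_map_add WittVector.verschiebung]
  conv_rhs => rw [out_eq p hk.le hx, out_eq p hk.le hy]
  show (WittVector.verschiebung^[k] _).coeff k = _
  rw [coeff_iterate, coeff_iterate, coeff_iterate, WittVector.add_coeff_zero]

theorem lead_neg {x : TruncatedWittVector p n R} (hx : x ∈ fil p n k R) :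
    lead p hk (-x) = - lead p hk x := by
  have := lead_add p hk hx (neg_mem hx)
  rw [add_neg_cancel, lead, TruncatedWittVector.coeff_zero] at this
  exact eq_neg_of_add_eq_zero_right this.symm

theorem lead_sum {ι : Type} (s : Finset ι) (x : ι → TruncatedWittVector p n R) (hx : ∀ i ∈ s, x i ∈ fil p n k R) :
    lead p hk (∑ i ∈ s, x i) = ∑ i ∈ s, lead p hk (x i) := by
  classical
  induction s using Finset.induction_on with
  | empty => simp [lead]
  | insert a s ha ih =>
    rw [Finset.sum_insert ha, Finset.sum_insert ha, lead_add p hk (hx a (Finset.mem_insert_self a s))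
      (sum_mem fun i hi => hx i (Finset.mem_insert_of_mem hi)), ih fun i hi => hx i (Finset.mem_insert_of_mem hi)]

theorem lead_mul (a : TruncatedWittVector p n R) {x : TruncatedWittVector p n R} (hx : x ∈ fil p n k R) :
    lead p hk (a * x) = gh p k a * lead p hk x := by
  conv_lhs => rw [← truncate_out p x, ← truncate_out p a, ← map_mul]
  rw [lead, WittVector.coeff_truncate, lead_eq, gh]
  conv_lhs => rw [out_eq p hk.le hx, mul_comm, WittVector.iterate_verschiebung_mul_left]
  conv_rhs => rw [out_eq p hk.le hx]
  show (WittVector.verschiebung^[k] _).coeff k = _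
  rw [coeff_iterate, coeff_iterate, WittVector.mul_coeff_zero, frobenius_iterate_coeff_zero, mul_comm]

/-- An element of `fil k` with given component of index `k`. -/
def tau (a : R) : TruncatedWittVector p n R :=
  TruncatedWittVector.mk p fun i => if (i : ℕ) = k then a else 0

theorem tau_mem (a : R) : (tau p (n := n) (k := k) a) ∈ fil p n k R := fun i hi => by
  rw [tau, TruncatedWittVector.coeff_mk, if_neg hi.ne]

theorem lead_tau (a : R) : lead p hk (tau p (k := k) a) = a := by
  rw [lead, tau, TruncatedWittVector.coeff_mk, if_pos rfl]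

/-- The first component as a ring map. -/
def coeff0 (m : ℕ) : TruncatedWittVector p (m + 1) R →+* R where
  toFun x := x.coeff 0
  map_one' := by
    rw [← map_one (WittVector.truncate (p := p) (R := R) (m + 1)), WittVector.coeff_truncate]
    exact WittVector.one_coeff_zero p R
  map_zero' := TruncatedWittVector.coeff_zero p _ R 0
  map_add' x y := by
    conv_lhs => rw [← truncate_out p x, ← truncate_out p y, ← map_add]
    rw [WittVector.coeff_truncate]
    exact (WittVector.add_coeff_zero _ _).trans (by simp [← TruncatedWittVector.coeff_out])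
  map_mul' x y := by
    conv_lhs => rw [← truncate_out p x, ← truncate_out p y, ← map_mul]
    rw [WittVector.coeff_truncate]
    exact (WittVector.mul_coeff_zero _ _).trans (by simp [← TruncatedWittVector.coeff_out])

theorem mem_fil_one {m : ℕ} {x : TruncatedWittVector p (m + 1) R} : x ∈ fil p (m + 1) 1 R ↔ coeff0 p m x = 0 :=
  ⟨fun h => h 0 Nat.one_pos, fun h i hi => by rw [show i = 0 from Fin.ext (by simpa using hi)]; exact h⟩

theorem coeff0_truncMap {m : ℕ} (f : R →+* S) (x : TruncatedWittVector p (m + 1) R) :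
    coeff0 p m (WittGrp.truncMap p (m + 1) f x) = f (coeff0 p m x) := WittGrp.coeff_truncMap p _ f x 0

theorem natCast_pow_eq_zero (hR : IsNilpotent (p : R)) (n : ℕ) :
    IsNilpotent (p : TruncatedWittVector p n R) := by
  obtain ⟨N, hN⟩ := hR
  haveI : NeZero (p ^ N) := ⟨(pow_pos hp.out.pos _).ne'⟩
  refine ⟨N * n, ?_⟩
  have h0 : ((Fintype.card (TruncatedWittVector p n (ZMod (p ^ N))) : ℕ) :
      TruncatedWittVector p n (ZMod (p ^ N))) = 0 := by
    rw [← nsmul_one, card_nsmul_eq_zero]
  rw [TruncatedWittVector.card, ZMod.card, ← pow_mul, Nat.cast_pow] at h0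
  haveI := ringChar.charP R
  have hdvd : ringChar R ∣ p ^ N := (CharP.cast_eq_zero_iff R (ringChar R) _).1 (by rw [Nat.cast_pow, hN])
  have := congrArg (WittGrp.truncMap p n (ZMod.castHom hdvd R)) h0
  rwa [map_pow, map_natCast, map_zero] at this

theorem isNilpotent_of_mem_fil (hR : IsNilpotent (p : R)) {m : ℕ} {x : TruncatedWittVector p (m + 1) R}
    (hx : x ∈ fil p (m + 1) 1 R) : IsNilpotent x := by
  obtain ⟨N, hN⟩ := natCast_pow_eq_zero p hR (m + 1)
  refine ⟨N + 1, ?_⟩
  let a := x.out.shift 1
  have hxa : x.out = WittVector.verschiebung a := out_eq p (k := 1) (by omega) hx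
  have key : ∀ j : ℕ, x.out ^ (j + 1) = WittVector.verschiebung ((p : WittVector p R) ^ j * a ^ (j + 1)) := by
    intro j
    induction j with
    | zero => simpa using hxa
    | succ j ih =>
      rw [pow_succ _ (j + 1), ih, hxa, ← WittVector.verschiebung_mul_frobenius, WittVector.frobenius_verschiebung]
      ring_nf
  have hV : ∀ b : WittVector p R, WittVector.truncate (m + 1) b = 0 →
      WittVector.truncate (m + 1) (WittVector.verschiebung b) = 0 := fun b hb => by
    refine TruncatedWittVector.ext fun ⟨i, hi⟩ => ?_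
    rw [WittVector.coeff_truncate, TruncatedWittVector.coeff_zero]
    cases i with
    | zero => exact WittVector.verschiebung_coeff_zero b
    | succ i =>
      rw [WittVector.verschiebung_coeff_succ]
      have := congrArg (fun w => TruncatedWittVector.coeff ⟨i, by omega⟩ w) hb
      simpa using this
  conv_lhs => rw [← truncate_out p x, ← map_pow, key N]
  exact hV _ (by rw [map_mul, map_pow, map_natCast, hN, zero_mul])

end Basic

section Mat

variable {R : Type u} [CommRing R] {n k : ℕ} {ι κ μ : Type}

/-- All entries lie in `fil k`. -/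
def MFil (k : ℕ) (X : Matrix ι κ (TruncatedWittVector p n R)) : Prop := ∀ i j, X i j ∈ fil p n k R

theorem MFil.add {X Y : Matrix ι κ (TruncatedWittVector p n R)} (hX : MFil p k X) (hY : MFil p k Y) :
    MFil p k (X + Y) := fun i j => add_mem (hX i j) (hY i j)

theorem MFil.sub {X Y : Matrix ι κ (TruncatedWittVector p n R)} (hX : MFil p k X) (hY : MFil p k Y) :
    MFil p k (X - Y) := fun i j => sub_mem (hX i j) (hY i j)

theorem MFil.mul_left [Fintype κ] (M : Matrix ι κ (TruncatedWittVector p n R))
    {X : Matrix κ μ (TruncatedWittVector p n R)} (hX : MFil p k X) : MFil p k (M * X) := fun i j => by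
  rw [Matrix.mul_apply]
  exact sum_mem fun l _ => Ideal.mul_mem_left _ _ (hX l j)

theorem MFil.mul_right [Fintype κ] (M : Matrix κ μ (TruncatedWittVector p n R))
    {X : Matrix ι κ (TruncatedWittVector p n R)} (hX : MFil p k X) : MFil p k (X * M) := fun i j => by
  rw [Matrix.mul_apply]
  exact sum_mem fun l _ => Ideal.mul_mem_right _ _ (hX i l)

variable (hk : k < n)

theorem lead_map_add {X Y : Matrix ι κ (TruncatedWittVector p n R)} (hX : MFil p k X) (hY : MFil p k Y) :
    (X + Y).map (lead p hk) = X.map (lead p hk) + Y.map (lead p hk) := by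
  refine Matrix.ext fun i j => ?_
  exact lead_add p hk (hX i j) (hY i j)

theorem lead_map_sub {X Y : Matrix ι κ (TruncatedWittVector p n R)} (hX : MFil p k X) (hY : MFil p k Y) :
    (X - Y).map (lead p hk) = X.map (lead p hk) - Y.map (lead p hk) := by
  refine Matrix.ext fun i j => ?_
  show lead p hk (X i j - Y i j) = lead p hk (X i j) - lead p hk (Y i j)
  rw [sub_eq_add_neg, lead_add p hk (hX i j) (neg_mem (hY i j)), lead_neg p hk (hY i j), sub_eq_add_neg]

theorem lead_map_mul [Fintype κ] (M : Matrix ι κ (TruncatedWittVector p n R))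
    {X : Matrix κ μ (TruncatedWittVector p n R)} (hX : MFil p k X) :
    (M * X).map (lead p hk) = M.map (gh p k) * X.map (lead p hk) := by
  refine Matrix.ext fun i j => ?_
  show lead p hk (∑ l, M i l * X l j) = ∑ l, gh p k (M i l) * lead p hk (X l j)
  rw [lead_sum p hk _ _ fun l _ => Ideal.mul_mem_left _ _ (hX l j)]
  exact Finset.sum_congr rfl fun l _ => lead_mul p hk _ (hX l j)

theorem lead_map_mul' [Fintype κ] (M : Matrix κ μ (TruncatedWittVector p n R))
    {X : Matrix ι κ (TruncatedWittVector p n R)} (hX : MFil p k X) :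
    (X * M).map (lead p hk) = X.map (lead p hk) * M.map (gh p k) := by
  refine Matrix.ext fun i j => ?_
  show lead p hk (∑ l, X i l * M l j) = ∑ l, lead p hk (X i l) * gh p k (M l j)
  rw [lead_sum p hk _ _ fun l _ => Ideal.mul_mem_right _ _ (hX i l)]
  exact Finset.sum_congr rfl fun l _ => by rw [mul_comm, lead_mul p hk _ (hX i l), mul_comm]

theorem gh_map_of_fil {X : Matrix ι κ (TruncatedWittVector p n R)} (hX : MFil p k X) :
    X.map (gh p k) = (p : R) ^ k • X.map (lead p hk) := by
  refine Matrix.ext fun i j => ?_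
  exact gh_of_mem p hk (hX i j)

variable [Fintype ι] [DecidableEq ι]

theorem isNilpotent_matrix {A : Type*} [CommRing A] (X : Matrix ι ι A) (h : ∀ i j, IsNilpotent (X i j)) :
    IsNilpotent X := by
  let I : Ideal A := Ideal.span (Set.range fun ij : ι × ι => X ij.1 ij.2)
  obtain ⟨N, hN⟩ : IsNilpotent I := (Ideal.FG.isNilpotent_iff_le_nilradical
    (Submodule.fg_span (Set.finite_range _))).2 (Ideal.span_le.2 (by rintro _ ⟨ij, rfl⟩; exact h _ _))
  refine ⟨N, ?_⟩
  have key : ∀ (N : ℕ) i j, (X ^ N) i j ∈ I ^ N := by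
    intro N
    induction N with
    | zero => intro i j; simp
    | succ N ih =>
      intro i j
      rw [pow_succ, pow_succ, Matrix.mul_apply]
      exact sum_mem fun l _ => Ideal.mul_mem_mul (ih i l) (Ideal.subset_span ⟨(l, j), rfl⟩)
  refine Matrix.ext fun i j => ?_
  have := key N i j
  rw [hN] at this
  simpa using this

/-- Inversion in a corner. -/
theorem exists_corner_inv {A : Type*} [CommRing A] {e Y : Matrix ι ι A} (he : e * e = e) (h1 : e * Y = Y)
    (h2 : Y * e = Y) (hY : ∀ i j, IsNilpotent (Y i j)) :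
    ∃ g, e * g = g ∧ g * e = g ∧ g * (e + Y) = e ∧ (e + Y) * g = e := by
  obtain ⟨U, hU⟩ := (isNilpotent_matrix Y hY).isUnit_one_add
  have hc : Commute e (U : Matrix ι ι A) := by
    rw [hU]
    exact (Commute.one_right e).add_right (show e * Y = Y * e by rw [h1, h2])
  have hci : Commute e ((U⁻¹ : (Matrix ι ι A)ˣ) : Matrix ι ι A) := hc.units_inv_right
  have heY : e + Y = e * (U : Matrix ι ι A) := by rw [hU, mul_add, mul_one, h1]
  refine ⟨e * ((U⁻¹ : (Matrix ι ι A)ˣ) : Matrix ι ι A), ?_, ?_, ?_, ?_⟩
  · rw [← mul_assoc, he]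
  · rw [mul_assoc, ← hci.eq, ← mul_assoc, he]
  · rw [heY, hci.eq, mul_assoc, ← mul_assoc e e, he, ← mul_assoc, ← hci.eq, mul_assoc, Units.inv_mul, mul_one]
  · rw [heY, hc.eq, mul_assoc, ← mul_assoc e e, he, ← mul_assoc, ← hc.eq, mul_assoc, Units.mul_inv, mul_one]

end Mat

variable {A B : Type u} [CommRing A] [CommRing B] [Algebra A B] {n : ℕ}

/-- The map of truncated Witt vectors attached to an algebra map. -/
abbrev wm {C D : Type u} [CommRing C] [CommRing D] [Algebra A C] [Algebra A D] (n : ℕ) (f : C →ₐ[A] D) :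
    TruncatedWittVector p n C →+* TruncatedWittVector p n D := WittGrp.truncMap p n f.toRingHom

/-- The map of truncated Witt vectors attached to the structure map. -/
abbrev wa (A C : Type u) [CommRing A] [CommRing C] [Algebra A C] (n : ℕ) :
    TruncatedWittVector p n A →+* TruncatedWittVector p n C := WittGrp.truncMap p n (algebraMap A C)

theorem wm_wm {C D E : Type u} [CommRing C] [CommRing D] [CommRing E] [Algebra A C] [Algebra A D] [Algebra A E]
    (f : C →ₐ[A] D) (g : D →ₐ[A] E) {l m : Type} (M : Matrix l m (TruncatedWittVector p n C)) :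
    (M.map (wm p n f)).map (wm p n g) = M.map (wm p n (g.comp f)) := by
  refine Matrix.ext fun i j => ?_
  exact (RingHom.congr_fun (WittGrp.truncMap_comp p n f.toRingHom g.toRingHom) (M i j)).symm

theorem wa_wm {C D : Type u} [CommRing C] [CommRing D] [Algebra A C] [Algebra A D]
    (g : C →ₐ[A] D) {l m : Type} (M : Matrix l m (TruncatedWittVector p n A)) :
    (M.map (wa p A C n)).map (wm p n g) = M.map (wa p A D n) := by
  refine Matrix.ext fun i j => ?_
  refine (RingHom.congr_fun (WittGrp.truncMap_comp p n (algebraMap A C) g.toRingHom) (M i j)).symm.trans ?_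
  show WittGrp.truncMap p n (g.toRingHom.comp (algebraMap A C)) (M i j) = WittGrp.truncMap p n (algebraMap A D) (M i j)
  rw [show g.toRingHom.comp (algebraMap A C) = algebraMap A D from g.comp_algebraMap]

/-- Conjugating a cocycle. -/
theorem conj_cocycle {ι κ : Type} [Fintype ι] [Fintype κ] {f : Matrix ι ι (TruncatedWittVector p n B)}
    {G : Matrix ι ι (TruncatedWittVector p n (B ⊗[A] B))} (hG : G * f.map (wm p n q0) = G)
    (h2 : G.map (wm p n pair12) * G.map (wm p n pair01) = G.map (wm p n pair02))
    (u : Matrix κ ι (TruncatedWittVector p n B)) (v : Matrix ι κ (TruncatedWittVector p n B)) (hvu : v * u = f) :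
    (u.map (wm p n q1) * G * v.map (wm p n q0)).map (wm p n pair12) *
        (u.map (wm p n q1) * G * v.map (wm p n q0)).map (wm p n pair01) =
      (u.map (wm p n q1) * G * v.map (wm p n q0)).map (wm p n pair02) := by
  simp only [map_mul', wm_wm, TorsTriv25.pair01_q0, TorsTriv25.pair01_q1, TorsTriv25.pair02_q0,
    TorsTriv25.pair02_q1]
  have hmid : G.map (wm p n pair12) * f.map (wm p n (TorsTriv25.p1 (A := A) (B := B))) = G.map (wm p n pair12) := by
    have := congrArg (fun M => M.map (wm p n (pair12 (A := A) (B := B)))) hG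
    simpa only [map_mul', wm_wm] using this
  rw [show (pair12 (A := A) (B := B)).comp q0 = TorsTriv25.p1 from rfl,
    show (pair12 (A := A) (B := B)).comp q1 = TorsTriv25.p2 from rfl]
  calc _ = u.map (wm p n TorsTriv25.p2) * (G.map (wm p n pair12) * (v * u).map (wm p n TorsTriv25.p1)) *
        (G.map (wm p n pair01) * v.map (wm p n TorsTriv25.p0)) := by
        simp only [map_mul', Matrix.mul_assoc]
    _ = _ := by
        rw [hvu, hmid]
        simp only [Matrix.mul_assoc]
        rw [← Matrix.mul_assoc (G.map (wm p n pair12)), h2]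

variable [Module.FaithfullyFlat A B]

theorem nilpotent_map (hpA : IsNilpotent (p : A)) (C : Type u) [CommRing C] [Algebra A C] : IsNilpotent (p : C) := by
  simpa using hpA.map (algebraMap A C)

set_option maxHeartbeats 1600000 in
/-- Successive trivialisation of a cocycle congruent to the trivial one. -/
theorem exists_trivialise {m : ℕ} (hpA : IsNilpotent (p : A)) {ι : Type} [Fintype ι] [DecidableEq ι]
    (e : Matrix ι ι (TruncatedWittVector p (m + 1) A)) (he : e * e = e)
    (G : Matrix ι ι (TruncatedWittVector p (m + 1) (B ⊗[A] B)))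
    (hG0 : G * e.map (wa p A _ (m + 1)) = G) (hG1 : e.map (wa p A _ (m + 1)) * G = G)
    (h2 : G.map (wm p _ pair12) * G.map (wm p _ pair01) = G.map (wm p _ pair02))
    (hmod : MFil p 1 (G - e.map (wa p A _ (m + 1)))) :
    ∀ k, 1 ≤ k → k ≤ m + 1 → ∃ g g' : Matrix ι ι (TruncatedWittVector p (m + 1) B),
      e.map (wa p A B _) * g = g ∧ g * e.map (wa p A B _) = g ∧
      e.map (wa p A B _) * g' = g' ∧ g' * e.map (wa p A B _) = g' ∧
      g' * g = e.map (wa p A B _) ∧ g * g' = e.map (wa p A B _) ∧
      MFil p k (g'.map (wm p _ q1) * G * g.map (wm p _ q0) - e.map (wa p A _ (m + 1))) := by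
  intro k hk1
  induction k, hk1 using Nat.le_induction with
  | base =>
    intro _
    have heB : e.map (wa p A B (m + 1)) * e.map (wa p A B (m + 1)) = e.map (wa p A B (m + 1)) := by
      rw [← map_mul', he]
    refine ⟨_, _, heB, heB, heB, heB, heB, heB, ?_⟩
    rw [wa_wm, wa_wm, hG1, hG0]
    exact hmod
  | succ k hk ih =>
    intro hk'
    have hk'' : k < m + 1 := by omega
    obtain ⟨g, g', heg, hge, heg', hg'e, hg'g, hgg', hfil⟩ := ih hk''.le
    set eB := e.map (wa p A B (m + 1)) with heBdef
    set e2 := e.map (wa p A (B ⊗[A] B) (m + 1)) with he2def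
    have he2 : e2 * e2 = e2 := by rw [he2def, ← map_mul', he]
    have heB : eB * eB = eB := by rw [heBdef, ← map_mul', he]
    have q1e : eB.map (wm p _ q1) = e2 := wa_wm p _ e
    have q0e : eB.map (wm p _ q0) = e2 := wa_wm p _ e
    set G' := g'.map (wm p _ q1) * G * g.map (wm p _ q0) with hG'def
    have hG'0 : G' * e2 = G' := by rw [hG'def, Matrix.mul_assoc, ← q0e, ← map_mul', hge]
    have hG'1 : e2 * G' = G' := by
      rw [hG'def, ← Matrix.mul_assoc, ← Matrix.mul_assoc, ← q1e, ← map_mul', heg']
    have hG'2 : G'.map (wm p _ pair12) * G'.map (wm p _ pair01) = G'.map (wm p _ pair02) :=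
      conj_cocycle p (f := eB) (by rw [q0e]; exact hG0) h2 g' g hgg'
    set X := G' - e2 with hXdef
    have hX0 : X * e2 = X := by rw [hXdef, sub_mul, hG'0, he2]
    have hX1 : e2 * X = X := by rw [hXdef, mul_sub, hG'1, he2]
    let e3 := e.map (wa p A (B ⊗[A] (B ⊗[A] B)) (m + 1))
    have h3 : X.map (wm p _ pair12) + X.map (wm p _ pair01) + X.map (wm p _ pair12) * X.map (wm p _ pair01) =
        X.map (wm p _ pair02) := by
      have hh := hG'2
      rw [show G' = e2 + X by rw [hXdef, add_sub_cancel]] at hh
      simp only [map_add', he2def, wa_wm] at hh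
      have a1 : e3 * X.map (wm p _ pair01) = X.map (wm p _ pair01) := by
        rw [show e3 = e2.map (wm p _ (pair01 (A := A) (B := B))) from (wa_wm p _ e).symm, ← map_mul', hX1]
      have a2 : X.map (wm p _ pair12) * e3 = X.map (wm p _ pair12) := by
        rw [show e3 = e2.map (wm p _ (pair12 (A := A) (B := B))) from (wa_wm p _ e).symm, ← map_mul', hX0]
      rw [add_mul, mul_add, mul_add, a1, a2, ← map_mul' _ e e, he] at hh
      rw [add_assoc] at hh
      refine Eq.trans ?_ (add_left_cancel hh)
      abel
    have hf1 : MFil p k (X.map (wm p _ pair12)) := fun i j => by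
      rw [Matrix.map_apply]; exact truncMap_mem_fil p _ (hfil i j)
    have hf2 : MFil p k (X.map (wm p _ pair01)) := fun i j => by
      rw [Matrix.map_apply]; exact truncMap_mem_fil p _ (hfil i j)
    let c : A := (p : A) ^ k
    let x := X.map (lead p hk'')
    let eA : Matrix ι ι A := e.map (gh p k)
    -- ghost components form a ring homomorphism
    have gmul : ∀ {R : Type u} [CommRing R] (a b : TruncatedWittVector p (m + 1) R),
        gh p k (a * b) = gh p k a * gh p k b := fun {R} _ a b => by
      have h := lead_mul p hk'' (a * b) (tau_mem p (k := k) (1 : R))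
      have h' := lead_mul p hk'' a (Ideal.mul_mem_left (fil p (m + 1) k R) b (tau_mem p (k := k) (1 : R)))
      rw [lead_mul p hk'' b (tau_mem p (1 : R)), ← mul_assoc a b, h, lead_tau, mul_one, mul_one] at h'
      exact h'
    have gadd : ∀ {R : Type u} [CommRing R] (a b : TruncatedWittVector p (m + 1) R),
        gh p k (a + b) = gh p k a + gh p k b := fun {R} _ a b => by
      have h := lead_mul p hk'' (a + b) (tau_mem p (k := k) (1 : R))
      rw [add_mul, lead_add p hk'' (Ideal.mul_mem_left _ _ (tau_mem p _)) (Ideal.mul_mem_left _ _ (tau_mem p _)),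
        lead_mul p hk'' a (tau_mem p _), lead_mul p hk'' b (tau_mem p _), lead_tau, mul_one, mul_one, mul_one] at h
      exact h.symm
    let ghA : TruncatedWittVector p (m + 1) A →+* A :=
      { toFun := gh p k
        map_one' := by
          have h := lead_mul p hk'' 1 (tau_mem p (k := k) (1 : A))
          rw [one_mul, lead_tau, mul_one] at h
          exact h.symm
        map_mul' := gmul
        map_zero' := by
          have h := lead_mul p hk'' 0 (tau_mem p (k := k) (1 : A))
          rw [zero_mul, lead_tau, mul_one, lead, TruncatedWittVector.coeff_zero] at h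
          exact h.symm
        map_add' := gadd }
    have heA : eA * eA = eA := (map_mul' ghA e e).symm.trans (congrArg (fun M => M.map ghA) he)
    have hgh : ∀ (C : Type u) [CommRing C] [Algebra A C],
        (e.map (wa p A C (m + 1))).map (gh p k) = eA.map (algebraMap A C) := fun C _ _ => by
      refine Matrix.ext fun i j => ?_
      exact gh_truncMap p _ _
    have hlead : ∀ {C D : Type u} [CommRing C] [CommRing D] [Algebra A C] [Algebra A D] (h : C →ₐ[A] D)
        (M : Matrix ι ι (TruncatedWittVector p (m + 1) C)),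
        (M.map (wm p _ h)).map (lead p hk'') = (M.map (lead p hk'')).map h := fun h M => by
      refine Matrix.ext fun i j => ?_
      exact lead_truncMap p hk'' _ _
    have hcmul : ∀ {C : Type u} [CommRing C] [Algebra A C] (M N : Matrix ι ι (TruncatedWittVector p (m + 1) C)),
        MFil p k M → MFil p k N →
          (M * N).map (lead p hk'') = c • (M.map (lead p hk'') * N.map (lead p hk'')) := fun {C} _ _ M N hM hN => by
      rw [lead_map_mul p hk'' M hN, gh_map_of_fil p hk'' hM, Matrix.smul_mul]
      refine Matrix.ext fun i j => ?_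
      simp [c, Algebra.smul_def]
    obtain ⟨y, hey, hye, hy⟩ := exists_twisted_coboundary (B := B) c eA heA x
      (by rw [← hgh, ← lead_map_mul p hk'' _ hfil, hX1])
      (by rw [← hgh, ← lead_map_mul' p hk'' _ hfil, hX0]) (by
        have hh := congrArg (fun M => M.map (lead p hk'')) h3
        simp only [lead_map_add p hk'' (hf1.add p hf2) (hf1.mul_right p _), lead_map_add p hk'' hf1 hf2,
          hcmul _ _ hf1 hf2, hlead] at hh
        exact hh)
    let Y : Matrix ι ι (TruncatedWittVector p (m + 1) B) := eB * y.map (tau p (k := k)) * eB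
    have hty : MFil p k (y.map (tau p (n := m + 1) (k := k))) := fun i j => tau_mem p _
    have hY : MFil p k Y := (hty.mul_left p _).mul_right p _
    have hYy : Y.map (lead p hk'') = y := by
      simp only [Y]
      rw [lead_map_mul' p hk'' _ (hty.mul_left p _), lead_map_mul p hk'' _ hty, heBdef, hgh,
        show (y.map (tau p (n := m + 1) (k := k))).map (lead p hk'') = y from by
          refine Matrix.ext fun i j => ?_; exact lead_tau p hk'' _, hey, hye]
    have heY : eB * Y = Y := by simp only [Y, ← Matrix.mul_assoc, heB]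
    have hYe : Y * eB = Y := by simp only [Y, Matrix.mul_assoc, heB]
    obtain ⟨h, heh, hhe, hh1, hh2⟩ := exists_corner_inv heB heY hYe fun i j =>
      isNilpotent_of_mem_fil p (nilpotent_map p hpA B) fun l hl => hY i j l (by omega)
    have hY0 : MFil p k (Y.map (wm p _ (q0 (A := A)))) := fun i j => by
      rw [Matrix.map_apply]; exact truncMap_mem_fil p _ (hY i j)
    have hY1 : MFil p k (Y.map (wm p _ (q1 (A := A)))) := fun i j => by
      rw [Matrix.map_apply]; exact truncMap_mem_fil p _ (hY i j)
    let X' := X + Y.map (wm p _ q0) + X * Y.map (wm p _ q0) - Y.map (wm p _ q1)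
    have hX' : MFil p (k + 1) X' := fun i j => by
      refine coeff_zero_of_lead p hk'' ((((hfil.add p hY0).add p (hfil.mul_right p _)).sub p hY1) i j) ?_
      have hl : X'.map (lead p hk'') = 0 := by
        simp only [X']
        rw [lead_map_sub p hk'' ((hfil.add p hY0).add p (hfil.mul_right p _)) hY1,
          lead_map_add p hk'' (hfil.add p hY0) (hfil.mul_right p _), lead_map_add p hk'' hfil hY0,
          hcmul _ _ hfil hY0, hlead, hlead, hYy]
        exact sub_eq_zero.2 hy
      exact congrFun (congrFun hl i) j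
    refine ⟨g * (eB + Y), h * g', ?_, ?_, ?_, ?_, ?_, ?_, ?_⟩
    · rw [← Matrix.mul_assoc, heg]
    · rw [Matrix.mul_assoc, add_mul, heB, hYe]
    · rw [← Matrix.mul_assoc, heh]
    · rw [Matrix.mul_assoc, hg'e]
    · rw [Matrix.mul_assoc, ← Matrix.mul_assoc g', hg'g, mul_add, heB, heY, hh1]
    · rw [Matrix.mul_assoc, ← Matrix.mul_assoc (eB + Y), hh2, ← Matrix.mul_assoc, hge, hgg']
    · have hq : h.map (wm p _ (q1 (A := A))) * (e2 + Y.map (wm p _ q1)) = e2 := by
        rw [← q1e, ← map_add', ← map_mul', hh1]
      have hexp : (h * g').map (wm p _ q1) * G * (g * (eB + Y)).map (wm p _ q0) - e2 =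
          h.map (wm p _ (q1 (A := A))) * X' := by
        rw [map_mul', map_mul', map_add', q0e,
          show h.map (wm p _ (q1 (A := A))) * g'.map (wm p _ q1) * G * (g.map (wm p _ q0) * (e2 + Y.map (wm p _ q0))) =
            h.map (wm p _ q1) * ((e2 + X) * (e2 + Y.map (wm p _ q0))) from by
            rw [show e2 + X = G' by rw [hXdef, add_sub_cancel], hG'def]
            simp only [Matrix.mul_assoc]]
        nth_rewrite 3 [← hq]
        rw [← mul_sub]
        congr 1
        have hY0e : e2 * Y.map (wm p _ (q0 (A := A))) = Y.map (wm p _ q0) := by rw [← q0e, ← map_mul', heY]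
        simp only [X', add_mul, mul_add, he2, hX0, hY0e]
        abel
      rw [hexp]
      exact hX'.mul_left p _

set_option maxHeartbeats 800000 in
/-- Descent of finite projective modules over truncated Witt vectors, in matrix form. -/
theorem wittDescent {m : ℕ} (hpA : IsNilpotent (p : A)) {ι : Type} [Fintype ι] [DecidableEq ι]
    (f : Matrix ι ι (TruncatedWittVector p (m + 1) B)) (G : Matrix ι ι (TruncatedWittVector p (m + 1) (B ⊗[A] B)))
    (hf : f * f = f) (hG0 : G * f.map (wm p _ q0) = G) (hG1 : f.map (wm p _ q1) * G = G)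
    (h1 : G.map (wm p _ diagHom) = f)
    (h2 : G.map (wm p _ pair12) * G.map (wm p _ pair01) = G.map (wm p _ pair02)) :
    ∃ (k : ℕ) (e : Matrix (Fin k) (Fin k) (TruncatedWittVector p (m + 1) A))
      (u : Matrix (Fin k) ι (TruncatedWittVector p (m + 1) B)) (v : Matrix ι (Fin k) (TruncatedWittVector p (m + 1) B)),
      e * e = e ∧ u * v = e.map (wa p A B _) ∧ v * u = f ∧ G = v.map (wm p _ q1) * u.map (wm p _ q0) := by
  classical
  have hc : ∀ {C D : Type u} [CommRing C] [CommRing D] [Algebra A C] [Algebra A D] (h : C →ₐ[A] D) {l l' : Type}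
      (M : Matrix l l' (TruncatedWittVector p (m + 1) C)),
      (M.map (wm p _ h)).map (coeff0 p m) = (M.map (coeff0 p m)).map h := fun h _ _ M => by
    refine Matrix.ext fun i j => ?_
    exact coeff0_truncMap p _ _
  obtain ⟨k, e0, u0, v0, he0, huv0, hvu0, hve0, hG⟩ := matDescent (A := A) (f.map (coeff0 p m)) (G.map (coeff0 p m))
    (by rw [← hc, h1]) (by rw [← hc, ← hc, ← hc, ← map_mul', h2])
  have hnil : ∀ M ∈ RingHom.ker ((coeff0 p m (R := A)).mapMatrix (m := Fin k)), IsNilpotent M := fun M hM =>
    isNilpotent_matrix M fun i j => isNilpotent_of_mem_fil p hpA ((mem_fil_one p).2 (congrFun (congrFun hM i) j))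
  obtain ⟨e, he, hee0⟩ := exists_isIdempotentElem_eq_of_ker_isNilpotent _ hnil e0
    ⟨Matrix.of fun i j => tau p (k := 0) (e0 i j), by refine Matrix.ext fun i j => ?_; exact lead_tau p (Nat.succ_pos m) _⟩ he0
  have hee : e.map (coeff0 p m) = e0 := hee0
  set eB := e.map (wa p A B (m + 1)) with heBdef
  have heB : eB * eB = eB := by rw [heBdef, ← map_mul', he.eq]
  have heB0 : eB.map (coeff0 p m) = e0.map (algebraMap A B) := by
    rw [← hee]
    refine Matrix.ext fun i j => ?_
    exact coeff0_truncMap p _ _
  let U : Matrix (Fin k) ι (TruncatedWittVector p (m + 1) B) := eB * u0.map (tau p (k := 0)) * f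
  let V : Matrix ι (Fin k) (TruncatedWittVector p (m + 1) B) := f * v0.map (tau p (k := 0)) * eB
  have hE : e0.map (algebraMap A B) * e0.map (algebraMap A B) = e0.map (algebraMap A B) := by rw [← map_mul', he0]
  have hv : v0 * u0 * v0 = v0 := by rw [Matrix.mul_assoc, huv0, hve0]
  have hU0 : U.map (coeff0 p m) = e0.map (algebraMap A B) * u0 := by
    have ht : (u0.map (tau p (n := m + 1) (k := 0))).map (coeff0 p m) = u0 := by
      refine Matrix.ext fun i j => ?_; exact lead_tau p (Nat.succ_pos m) _
    simp only [U, map_mul', heB0, ht, ← hvu0]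
    rw [Matrix.mul_assoc, ← Matrix.mul_assoc u0, huv0, ← Matrix.mul_assoc, hE]
  have hV0 : V.map (coeff0 p m) = v0 := by
    have ht : (v0.map (tau p (n := m + 1) (k := 0))).map (coeff0 p m) = v0 := by
      refine Matrix.ext fun i j => ?_; exact lead_tau p (Nat.succ_pos m) _
    simp only [V, map_mul', heB0, ht, ← hvu0]
    rw [hv, hve0]
  have hUV0 : (U * V - eB).map (coeff0 p m) = 0 := by
    rw [map_sub', map_mul', hU0, hV0, heB0, sub_eq_zero]
    rw [Matrix.mul_assoc, huv0, hE]
  have hUe : eB * U = U := by simp only [U, ← Matrix.mul_assoc, heB]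
  have hVe : V * eB = V := by simp only [V, Matrix.mul_assoc, heB]
  have hVf : f * V = V := by simp only [V, ← Matrix.mul_assoc, hf]
  have hUf : U * f = U := by simp only [U, Matrix.mul_assoc, hf]
  obtain ⟨w, hew, hwe, hw1, -⟩ := exists_corner_inv heB (Y := U * V - eB)
    (by rw [mul_sub, ← Matrix.mul_assoc, hUe, heB]) (by rw [sub_mul, Matrix.mul_assoc, hVe, heB])
    fun i j => isNilpotent_of_mem_fil p (nilpotent_map p hpA B) ((mem_fil_one p).2 (congrFun (congrFun hUV0 i) j))
  rw [add_sub_cancel] at hw1
  let u1 := w * U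
  have hu1V : u1 * V = eB := by rw [Matrix.mul_assoc, hw1]
  have hVu : V * u1 * (V * u1) = V * u1 := by
    rw [Matrix.mul_assoc, ← Matrix.mul_assoc u1, hu1V, ← Matrix.mul_assoc V eB, hVe]
  have hfP : f * (V * u1) = V * u1 := by rw [← Matrix.mul_assoc, hVf]
  have hPf : V * u1 * f = V * u1 := by simp only [u1, Matrix.mul_assoc, hUf]
  have hw0 : w.map (coeff0 p m) = e0.map (algebraMap A B) := by
    have h1' := congrArg (fun M => M.map (coeff0 p m)) hw1
    have hUV1 : (U * V).map (coeff0 p m) = eB.map (coeff0 p m) := by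
      rw [← sub_eq_zero, ← map_sub', hUV0]
    simp only [map_mul'] at h1' hUV1
    rw [hUV1, ← map_mul'] at h1'
    rw [hwe, heB0] at h1'
    exact h1'
  have hP0 : ∀ i j, IsNilpotent ((V * u1 - f) i j) := fun i j => by
    refine isNilpotent_of_mem_fil p (nilpotent_map p hpA B) ((mem_fil_one p).2 ?_)
    suffices (V * u1 - f).map (coeff0 p m) = 0 from congrFun (congrFun this i) j
    simp only [u1, map_sub', map_mul', hw0, hV0, hU0]
    rw [sub_eq_zero, ← Matrix.mul_assoc v0, hve0, ← Matrix.mul_assoc v0, hve0, hvu0]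
  obtain ⟨w', -, -, -, hw'2⟩ := exists_corner_inv hf (Y := V * u1 - f)
    (by rw [mul_sub, hfP, hf]) (by rw [sub_mul, hPf, hf]) hP0
  rw [add_sub_cancel] at hw'2
  have hVuf : V * u1 = f := by
    calc V * u1 = V * u1 * f := hPf.symm
      _ = V * u1 * (V * u1 * w') := by rw [hw'2]
      _ = f := by rw [← Matrix.mul_assoc, hVu, hw'2]
  have hu1e : eB * u1 = u1 := by rw [← Matrix.mul_assoc, hew]
  let G1 := u1.map (wm p _ q1) * G * V.map (wm p _ q0)
  have e2q1 : eB.map (wm p _ (q1 (A := A))) = e.map (wa p A (B ⊗[A] B) (m + 1)) := wa_wm p _ e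
  have e2q0 : eB.map (wm p _ (q0 (A := A))) = e.map (wa p A (B ⊗[A] B) (m + 1)) := wa_wm p _ e
  obtain ⟨g, g', heg, hge, heg', hg'e, hg'g, hgg', hfil⟩ := exists_trivialise p hpA e he.eq G1
    (by rw [← e2q0, Matrix.mul_assoc, ← map_mul', hVe])
    (by rw [← e2q1, ← Matrix.mul_assoc, ← Matrix.mul_assoc, ← map_mul', hu1e])
    (conj_cocycle p hG0 h2 u1 V hVuf) (fun i j => (mem_fil_one p).2 (by
      suffices (G1 - e.map (wa p A _ (m + 1))).map (coeff0 p m) = 0 from congrFun (congrFun this i) j
      rw [← e2q1]
      simp only [G1, u1, map_sub', map_mul', hc, hw0, hV0, hU0, heB0, hG]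
      rw [sub_eq_zero]
      rw [← Matrix.mul_assoc ((e0.map (algebraMap A B)).map q1), ← map_mul', hE]
      refine Eq.trans (b := (e0.map (algebraMap A B)).map q1 * (u0.map q1 * v0.map q1) * (u0.map q0 * v0.map q0))
        (by simp only [Matrix.mul_assoc]) ?_
      rw [← map_mul', huv0, ← map_mul', hE, ← map_mul', huv0, map_algebraMap', map_algebraMap', ← map_mul', he0])) (m + 1) (by omega) le_rfl
  refine ⟨k, e, g' * u1, V * g, he.eq, ?_, ?_, ?_⟩
  · rw [Matrix.mul_assoc, ← Matrix.mul_assoc u1, hu1V, heg, hg'g]
  · rw [Matrix.mul_assoc, ← Matrix.mul_assoc g, hgg', hu1e, hVuf]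
  · have hz : g'.map (wm p _ q1) * G1 * g.map (wm p _ q0) = e.map (wa p A (B ⊗[A] B) (m + 1)) := by
      rw [← sub_eq_zero]
      refine Matrix.ext fun i j => ?_
      exact eq_zero_of_mem_fil p le_rfl (hfil i j)
    have hG1e : G1 * g.map (wm p _ q0) = g.map (wm p _ q1) := by
      calc G1 * g.map (wm p _ q0) = (eB.map (wm p _ q1) * G1) * g.map (wm p _ q0) := by
            congr 1
            simp only [G1, ← Matrix.mul_assoc, ← map_mul', hu1e]
        _ = g.map (wm p _ q1) * (g'.map (wm p _ q1) * G1 * g.map (wm p _ q0)) := by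
            rw [show eB = g * g' from hgg'.symm, map_mul']
            simp only [Matrix.mul_assoc]
        _ = g.map (wm p _ q1) := by rw [hz, ← e2q1, ← map_mul', hge]
    calc G = f.map (wm p _ q1) * G * f.map (wm p _ q0) := by rw [hG1, hG0]
      _ = V.map (wm p _ q1) * G1 * u1.map (wm p _ q0) := by
          simp only [G1, ← hVuf, map_mul', Matrix.mul_assoc]
      _ = V.map (wm p _ q1) * G1 * (g * g' * u1).map (wm p _ q0) := by rw [hgg', hu1e]
      _ = (V * g).map (wm p _ q1) * (g' * u1).map (wm p _ q0) := by
          simp only [map_mul', Matrix.mul_assoc]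
          rw [← Matrix.mul_assoc G1, hG1e]

end Groth.Agent.WittDesc2
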